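import Mathlib.GroupTheory.Subgroup.Centralizer
import Mathlib.GroupTheory.Subgroup.Simple
import Mathlib.Algebra.Group.Subgroup.Pointwise
import Mathlib.GroupTheory.Sylow
import Mathlib.GroupTheory.Index

/-! A non-abelian minimal normal subgroup is generated by the commuting conjugates of a simple
subgroup (elementwise version, for use with the primitive-group arguments). -/

set_option autoImplicit false

namespace CfsgLib.ExtPrim

variable {G : Type*} [Group G]

/-- The conjugate `g T g⁻¹`. -/
def cj (g : G) (T : Subgroup G) : Subgroup G := T.map (MulAut.conj g).toMonoidHom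

theorem mem_cj {g : G} {T : Subgroup G} {y : G} : y ∈ cj g T ↔ g⁻¹ * y * g ∈ T := by
  rw [cj, Subgroup.mem_map_equiv, MulAut.conj_symm_apply]

theorem conj_mem_cj {g : G} {T : Subgroup G} {y : G} (hy : y ∈ T) : g * y * g⁻¹ ∈ cj g T := by
  rw [mem_cj]; simpa [mul_assoc] using hy

theorem cj_one (T : Subgroup G) : cj 1 T = T := by ext; simp [mem_cj]

theorem cj_cj (g h : G) (T : Subgroup G) : cj g (cj h T) = cj (g * h) T := by
  ext y; simp [mem_cj, mul_assoc]

theorem card_cj (g : G) (T : Subgroup G) : Nat.card (cj g T) = Nat.card T :=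
  (Nat.card_congr (T.equivMapOfInjective (MulAut.conj g).toMonoidHom (MulAut.conj g).injective).toEquiv).symm

/-- The join of the conjugates of `T` different from `T`. -/
def others (T : Subgroup G) : Subgroup G := ⨆ (g : G) (_ : cj g T ≠ T), cj g T

theorem cj_le_others {g : G} {T : Subgroup G} (h : cj g T ≠ T) : cj g T ≤ others T :=
  le_iSup₂ (f := fun g (_ : cj g T ≠ T) => cj g T) g h

/-- `T` is one of the simple factors of the non-abelian minimal normal subgroup `N`. -/
structure IsFactor (N T : Subgroup G) : Prop where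
  le : T ≤ N
  ne_bot : T ≠ ⊥
  conj_mem : ∀ n ∈ N, ∀ x ∈ T, n * x * n⁻¹ ∈ T
  simple : IsSimpleGroup T
  nonab : ¬ IsMulCommutative T
  others_comm : others T ≤ Subgroup.centralizer (T : Set G)
  others_le : others T ≤ N
  sup_others : T ⊔ others T = N
  inf_others : T ⊓ others T = ⊥

theorem IsFactor.commute {N T : Subgroup G} (h : IsFactor N T) {t c : G} (ht : t ∈ T)
    (hc : c ∈ others T) : Commute t c :=
  Subgroup.mem_centralizer_iff.1 (h.others_comm hc) t ht

theorem IsFactor.cj_eq_of_mem {N T : Subgroup G} (h : IsFactor N T) {n : G} (hn : n ∈ N) :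
    cj n T = T := by
  ext y
  rw [mem_cj]
  constructor
  · intro hy; simpa [mul_assoc] using h.conj_mem n hn _ hy
  · intro hy; simpa using h.conj_mem n⁻¹ (inv_mem hn) _ hy

theorem exists_mul_of_le_normalizer {H K : Subgroup G}
    (hn : K ≤ Subgroup.normalizer (H : Set G)) {x : G} (hx : x ∈ H ⊔ K) :
    ∃ y ∈ H, ∃ z ∈ K, x = y * z := by
  rw [← SetLike.mem_coe, Subgroup.coe_mul_of_right_le_normalizer_left H K hn] at hx
  obtain ⟨y, hy, z, hz, rfl⟩ := hx
  exact ⟨y, hy, z, hz, rfl⟩

theorem IsFactor.exists_mul {N T : Subgroup G} (h : IsFactor N T) {x : G} (hx : x ∈ N) :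
    ∃ t ∈ T, ∃ c ∈ others T, x = t * c := by
  rw [← h.sup_others] at hx
  exact exists_mul_of_le_normalizer
    (h.others_comm.trans (Subgroup.centralizer_le_normalizer _)) hx

theorem exists_isFactor [Finite G] (N : Subgroup G) [hN : N.Normal] (hne : N ≠ ⊥)
    (hmin : ∀ K : Subgroup G, K.Normal → K ≤ N → K = ⊥ ∨ K = N)
    (hna : ¬ IsMulCommutative N) : ∃ T, IsFactor N T := by
  classical
  have : Fintype (Subgroup G) := Fintype.ofFinite _
  let Q : Subgroup G → Prop := fun T => T ≤ N ∧ T ≠ ⊥ ∧ ∀ n ∈ N, ∀ x ∈ T, n * x * n⁻¹ ∈ T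
  obtain ⟨T, hTQ, hTmin⟩ := Finset.exists_min_image (Finset.univ.filter Q)
    (fun T : Subgroup G => Nat.card T)
    ⟨N, by
      simp only [Finset.mem_filter, Finset.mem_univ, true_and]
      exact ⟨le_rfl, hne, fun n _ x hx => hN.conj_mem x hx n⟩⟩
  simp only [Finset.mem_filter, Finset.mem_univ, true_and] at hTQ hTmin
  obtain ⟨hTN, hT0, hTn⟩ := hTQ
  have hsmall : ∀ K : Subgroup G, K ≤ T → (∀ n ∈ N, ∀ x ∈ K, n * x * n⁻¹ ∈ K) → K ≠ ⊥ → K = T :=
    fun K hKT hKn hK0 => Subgroup.eq_of_le_of_card_ge hKT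
      (hTmin K ⟨hKT.trans hTN, hK0, hKn⟩)
  have hcjN : ∀ g, cj g T ≤ N := by
    intro g y hy
    have := hN.conj_mem _ (hTN (mem_cj.1 hy)) g
    simpa [mul_assoc] using this
  have hcjn : ∀ g, ∀ n ∈ N, ∀ x ∈ cj g T, n * x * n⁻¹ ∈ cj g T := by
    intro g n hn x hx
    rw [mem_cj] at hx ⊢
    have := hTn (g⁻¹ * n * g) (by simpa using hN.conj_mem n hn g⁻¹) _ hx
    simpa [mul_assoc] using this
  have hcomm : ∀ g, cj g T ≠ T → cj g T ≤ Subgroup.centralizer (T : Set G) := by
    intro g hg y hy
    rw [Subgroup.mem_centralizer_iff]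
    intro x hx
    have hI : T ⊓ cj g T = ⊥ := by
      by_contra hI
      have := hsmall _ inf_le_left (fun n hn z hz => ⟨hTn n hn z hz.1, hcjn g n hn z hz.2⟩) hI
      exact hg (Subgroup.eq_of_le_of_card_ge (inf_eq_left.1 this) (card_cj g T).le).symm
    have h1 : x * y * x⁻¹ * y⁻¹ ∈ T := by
      have : y * x⁻¹ * y⁻¹ ∈ T := hTn y (hcjN g hy) _ (inv_mem hx)
      have := mul_mem hx this
      simpa [mul_assoc] using this
    have h2 : x * y * x⁻¹ * y⁻¹ ∈ cj g T := mul_mem (hcjn g x (hTN hx) y hy) (inv_mem hy)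
    have h3 : x * y * x⁻¹ * y⁻¹ ∈ T ⊓ cj g T := ⟨h1, h2⟩
    rw [hI, Subgroup.mem_bot] at h3
    exact commutatorElement_eq_one_iff_mul_comm.1 (by rw [commutatorElement_def]; exact h3)
  have hothC : others T ≤ Subgroup.centralizer (T : Set G) := iSup₂_le hcomm
  have hothN : others T ≤ N := iSup₂_le fun g _ => hcjN g
  have hle : ∀ g, cj g T ≤ T ⊔ others T := by
    intro g
    by_cases hg : cj g T = T
    · exact hg.le.trans le_sup_left
    · exact (cj_le_others hg).trans le_sup_right
  have hJ : (T ⊔ others T) = ⨆ g, cj g T := by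
    refine le_antisymm (sup_le ?_ ?_) (iSup_le hle)
    · conv_lhs => rw [← cj_one T]
      exact le_iSup (fun g => cj g T) 1
    · exact iSup₂_le fun g _ => le_iSup (fun g => cj g T) g
  have hJn : (T ⊔ others T).Normal := by
    rw [hJ]
    refine ⟨fun y hy h => ?_⟩
    have : h * y * h⁻¹ ∈ (⨆ g, cj g T).map (MulAut.conj h).toMonoidHom :=
      Subgroup.mem_map_of_mem (MulAut.conj h).toMonoidHom hy
    rw [Subgroup.map_iSup] at this
    refine (show _ ≤ ⨆ g, cj g T from iSup_le fun g => ?_) this
    show cj h (cj g T) ≤ _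
    rw [cj_cj]
    exact le_iSup (fun g => cj g T) (h * g)
  have hsup : T ⊔ others T = N := by
    rcases hmin _ hJn (sup_le hTN hothN) with h | h
    · exact absurd (le_bot_iff.1 (h ▸ le_sup_left)) hT0
    · exact h
  have hnab : ¬ IsMulCommutative T := by
    intro hc
    refine hna ⟨⟨fun a b => Subtype.ext ?_⟩⟩
    have hT' : N ≤ Subgroup.centralizer (T : Set G) := by
      rw [← hsup]
      refine sup_le (fun y hy => ?_) hothC
      rw [Subgroup.mem_centralizer_iff]
      exact fun x hx => congrArg Subtype.val (hc.is_comm.comm (⟨x, hx⟩ : T) ⟨y, hy⟩)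
    have hall : ∀ g, cj g T ≤ Subgroup.centralizer (N : Set G) := by
      intro g y hy
      rw [Subgroup.mem_centralizer_iff]
      intro n hn
      have := Subgroup.mem_centralizer_iff.1 (hT' (hN.conj_mem n hn g⁻¹)) _ (mem_cj.1 hy)
      have := congrArg (fun t => g * t * g⁻¹) this
      simpa [mul_assoc] using this.symm
    have : N ≤ Subgroup.centralizer (N : Set G) := by
      conv_lhs => rw [← hsup, hJ]
      exact iSup_le hall
    exact (Subgroup.mem_centralizer_iff.1 (this a.2) b b.2).symm
  have hinf : T ⊓ others T = ⊥ := by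
    by_contra h
    have hZn : ∀ n ∈ N, ∀ x ∈ T ⊓ Subgroup.centralizer (T : Set G),
        n * x * n⁻¹ ∈ T ⊓ Subgroup.centralizer (T : Set G) := by
      intro n hn x hx
      refine ⟨hTn n hn x hx.1, Subgroup.mem_centralizer_iff.2 fun t ht => ?_⟩
      have := Subgroup.mem_centralizer_iff.1 hx.2 _ (hTn n⁻¹ (inv_mem hn) t ht)
      have := congrArg (fun t => n * t * n⁻¹) this
      simpa [mul_assoc] using this
    have hZ : T ⊓ Subgroup.centralizer (T : Set G) = T := hsmall _ inf_le_left hZn fun h0 =>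
      h (le_bot_iff.1 (h0 ▸ inf_le_inf_left _ hothC))
    exact hnab ⟨⟨fun a b => Subtype.ext
      ((Subgroup.mem_centralizer_iff.1 (inf_eq_left.1 hZ a.2) b b.2).symm)⟩⟩
  refine ⟨T, hTN, hT0, hTn, ?_, hnab, hothC, hothN, hsup, hinf⟩
  have : Nontrivial T := (Subgroup.nontrivial_iff_ne_bot T).2 hT0
  refine ⟨fun K hK => ?_⟩
  by_cases hK0 : K = ⊥
  · exact Or.inl hK0
  right
  have hKT : K.map T.subtype ≤ T := Subgroup.map_subtype_le _
  have hnorm : N ≤ Subgroup.normalizer ((K.map T.subtype : Subgroup G) : Set G) := by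
    rw [← hsup]
    refine sup_le ?_ ?_
    · exact (Subgroup.normal_subgroupOf_iff_le_normalizer hKT).1
        (by rw [Subgroup.subgroupOf, Subgroup.comap_map_eq_self_of_injective T.subtype_injective]
            exact hK)
    · exact hothC.trans ((Subgroup.centralizer_le hKT).trans
        (Subgroup.centralizer_le_normalizer _))
  have := hsmall _ hKT (fun n hn x hx => (Subgroup.mem_normalizer_iff.1 (hnorm hn) x).1 hx)
    (fun h => hK0 ((Subgroup.map_eq_bot_iff_of_injective _ T.subtype_injective).1 h))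
  refine Subgroup.map_injective T.subtype_injective (this.trans ?_)
  rw [← MonoidHom.range_eq_map, Subgroup.range_subtype]

theorem IsFactor.cj {N T : Subgroup G} [hN : N.Normal] (h : IsFactor N T) (g : G) :
    IsFactor N (cj g T) := by
  have hoth : others (ExtPrim.cj g T) = ExtPrim.cj g (others T) := by
    apply le_antisymm
    · refine iSup₂_le fun k hk y hy => ?_
      rw [cj_cj] at hy hk
      rw [mem_cj]
      have hne : ExtPrim.cj (g⁻¹ * k * g) T ≠ T := fun e => hk (by
        rw [show k * g = g * (g⁻¹ * k * g) by simp [mul_assoc], ← cj_cj, e])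
      refine cj_le_others hne ?_
      rw [mem_cj] at hy ⊢
      simpa [mul_assoc] using hy
    · have : ExtPrim.cj g (others T) = ⨆ (k : G) (_ : ExtPrim.cj k T ≠ T),
          ExtPrim.cj g (ExtPrim.cj k T) := by
        simp only [others, ExtPrim.cj, Subgroup.map_iSup]
      rw [this]
      refine iSup₂_le fun k hk => ?_
      have e : ExtPrim.cj g (ExtPrim.cj k T) =
          ExtPrim.cj (g * k * g⁻¹) (ExtPrim.cj g T) := by
        simp [cj_cj, mul_assoc]
      rw [e]
      refine cj_le_others fun e' => hk ?_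
      rw [← e] at e'
      exact Subgroup.map_injective (MulAut.conj g).injective e'
  constructor
  · intro y hy
    have := hN.conj_mem _ (h.le (mem_cj.1 hy)) g
    simpa [mul_assoc] using this
  · intro e
    exact h.ne_bot ((Subgroup.map_eq_bot_iff_of_injective _ (MulAut.conj g).injective).1 e)
  · intro n hn x hx
    rw [mem_cj] at hx ⊢
    have := h.conj_mem (g⁻¹ * n * g) (by simpa using hN.conj_mem n hn g⁻¹) _ hx
    simpa [mul_assoc] using this
  · have := h.simple
    have : Nontrivial (ExtPrim.cj g T : Subgroup G) :=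
      (Subgroup.nontrivial_iff_ne_bot _).2 fun e =>
        h.ne_bot ((Subgroup.map_eq_bot_iff_of_injective _ (MulAut.conj g).injective).1 e)
    exact IsSimpleGroup.isSimpleGroup_of_surjective
      (T.equivMapOfInjective (MulAut.conj g).toMonoidHom (MulAut.conj g).injective).toMonoidHom
      (T.equivMapOfInjective (MulAut.conj g).toMonoidHom (MulAut.conj g).injective).surjective
  · intro hc
    refine h.nonab ⟨⟨fun a b => ?_⟩⟩
    apply (T.equivMapOfInjective (MulAut.conj g).toMonoidHom (MulAut.conj g).injective).injective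
    simp only [map_mul]
    exact hc.is_comm.comm _ _
  · rw [hoth]
    intro y hy
    rw [Subgroup.mem_centralizer_iff]
    intro t ht
    have := Subgroup.mem_centralizer_iff.1 (h.others_comm (mem_cj.1 hy)) _ (mem_cj.1 ht)
    have := congrArg (fun t => g * t * g⁻¹) this
    simpa [mul_assoc] using this
  · rw [hoth]
    intro y hy
    have := hN.conj_mem _ (h.others_le (mem_cj.1 hy)) g
    simpa [mul_assoc] using this
  · rw [hoth, ExtPrim.cj, ExtPrim.cj, ← Subgroup.map_sup, h.sup_others]
    ext y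
    rw [Subgroup.mem_map_equiv, MulAut.conj_symm_apply]
    exact ⟨fun hy => by simpa [mul_assoc] using hN.conj_mem _ hy g,
      fun hy => by simpa using hN.conj_mem _ hy g⁻¹⟩
  · rw [hoth, ExtPrim.cj, ExtPrim.cj, ← Subgroup.map_inf _ _ _ (MulAut.conj g).injective,
      h.inf_others, Subgroup.map_bot]

end CfsgLib.ExtPrim
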