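import Mathlib.GroupTheory.Transfer
import Mathlib.GroupTheory.Sylow
import Mathlib.GroupTheory.Nilpotent
import Mathlib.GroupTheory.PGroup
import Mathlib.GroupTheory.SpecificGroups.Cyclic
import Mathlib.Data.Nat.Factors
import Mathlib.Data.Rat.Defs
import Mathlib.Algebra.BigOperators.Intervals
import Mathlib.Algebra.Order.BigOperators.Ring.Finset
import Mathlib.Tactic.Linarith
import Mathlib.Tactic.FieldSimp

/-! A non-abelian simple finite group cannot have all centralizers of non-identity elements
self-normalizing and invariant under passing to non-trivial powers. -/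

set_option autoImplicit false

namespace CfsgLib.ExtPrim

open Subgroup

variable {T : Type*} [Group T]

/-- Shorthand for the centralizer of one element. -/
local notation "C[" x "]" => Subgroup.centralizer ({x} : Set _)

theorem mem_cent {x c : T} : c ∈ C[x] ↔ x * c = c * x := by
  rw [mem_centralizer_iff]; simp

theorem cent_le_cent_pow (x : T) (n : ℕ) : C[x] ≤ C[x ^ n] := fun c hc => by
  rw [mem_cent] at hc ⊢
  exact (Commute.pow_left hc n).eq

theorem sum_inv_sq_le (n : ℕ) (hn : 2 ≤ n) :
    ∀ S : Finset ℕ, (∀ p ∈ S, 2 ≤ p ∧ p ≤ n) →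
      ∑ p ∈ S, ((1 : ℚ) / ((p : ℚ) ^ 2)) ≤ 1 - (1 : ℚ) / (n : ℚ) := by
  have key : ∀ m : ℕ, 2 ≤ m →
      ∑ p ∈ Finset.Icc 2 m, ((1 : ℚ) / ((p : ℚ) ^ 2)) ≤ 1 - (1 : ℚ) / (m : ℚ) := by
    intro m hm
    induction m, hm using Nat.le_induction with
    | base => simp; norm_num
    | succ m hm ih =>
      rw [Finset.sum_Icc_succ_top (by omega)]
      have hm0 : (0 : ℚ) < m := by exact_mod_cast (show 0 < m by omega)
      have h1 : (1 : ℚ) / ((m + 1 : ℕ) : ℚ) ^ 2 ≤ (1 : ℚ) / (m : ℚ) - 1 / ((m + 1 : ℕ) : ℚ) := by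
        push_cast
        rw [div_sub_div _ _ hm0.ne' (by positivity),
          div_le_div_iff₀ (by positivity) (by positivity)]
        nlinarith
      linarith
  intro S hS
  refine le_trans (Finset.sum_le_sum_of_subset_of_nonneg (fun p hp => ?_) fun _ _ _ => ?_)
    (key n hn)
  · exact Finset.mem_Icc.2 (hS p hp)
  · positivity

theorem false_of_abelian_self_normalizing [Finite T] [IsSimpleGroup T]
    (hna : ¬ IsMulCommutative T) {p : ℕ} [Fact p.Prime] (P : Sylow p T)
    (hne : (P : Subgroup T) ≠ ⊥)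
    (hP : Subgroup.normalizer (P : Set T) ≤ centralizer (P : Set T)) : False := by
  have hc := MonoidHom.ker_transferSylow_isComplement' P hP
  rcases (inferInstance : (MonoidHom.transferSylow P hP).ker.Normal).eq_bot_or_eq_top with h | h
  · rw [h] at hc
    have hPt : (P : Subgroup T) = ⊤ := isComplement'_bot_left.1 hc
    refine hna ⟨⟨fun a b => ?_⟩⟩
    have hb : b ∈ centralizer (P : Set T) :=
      hP (Subgroup.le_normalizer (by rw [hPt]; trivial))
    exact (mem_centralizer_iff.1 hb a (show a ∈ (P : Subgroup T) by rw [hPt]; trivial))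
  · rw [h] at hc
    exact hne (isComplement'_top_left.1 hc)

theorem exists_sylow_eq [Finite T] {p : ℕ} [Fact p.Prime] {H : Subgroup T} (hH : IsPGroup p H)
    (hN : ∀ g ∈ Subgroup.normalizer (H : Set T), (∃ k, g ^ p ^ k = 1) → g ∈ H) :
    ∃ P : Sylow p T, (P : Subgroup T) = H := by
  obtain ⟨P, hP⟩ := hH.exists_le_sylow
  refine ⟨P, ?_⟩
  by_contra hne
  have : Group.IsNilpotent (P : Subgroup T) := P.isPGroup'.isNilpotent
  have hlt : H.subgroupOf P < ⊤ := by
    rw [lt_top_iff_ne_top, Ne, subgroupOf_eq_top]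
    exact fun h => hne (le_antisymm h hP)
  have hl := Group.normalizerCondition_of_isNilpotent _ hlt
  obtain ⟨g, hg, hgH⟩ := SetLike.exists_of_lt hl
  refine hgH ?_
  rw [mem_subgroupOf]
  refine hN g ?_ ?_
  · rw [Subgroup.mem_normalizer_iff] at hg ⊢
    intro x
    by_cases hx : x ∈ (P : Subgroup T)
    · exact hg ⟨x, hx⟩
    · exact ⟨fun h => absurd (hP h) hx, fun h => absurd (hP h)
        (fun hc => hx (by
          have := (P : Subgroup T).mul_mem ((P : Subgroup T).mul_mem (inv_mem g.2) hc) g.2
          simpa [mul_assoc] using this))⟩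
  · obtain ⟨k, hk⟩ := P.2 g
    exact ⟨k, by simpa using congrArg Subtype.val hk⟩

theorem index_center_ge {p : ℕ} [Fact p.Prime] {G : Type*} [Group G] [Finite G]
    (hG : IsPGroup p G) (hna : ¬ IsMulCommutative G) :
    p ^ 2 ≤ (Subgroup.center G).index := by
  obtain ⟨k, hk⟩ := hG.index (Subgroup.center G)
  rw [hk]
  refine Nat.pow_le_pow_right (Fact.out : p.Prime).pos ?_
  by_contra hk2
  refine hna ?_
  have hcyc : IsCyclic (G ⧸ Subgroup.center G) := by
    rcases Nat.lt_or_ge k 1 with h | h
    · have : Nat.card (G ⧸ Subgroup.center G) = 1 := by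
        rw [← Subgroup.index_eq_card, hk]; simp [Nat.lt_one_iff.1 h]
      have := (Nat.card_eq_one_iff_unique.1 this).1
      infer_instance
    · have : k = 1 := by omega
      refine isCyclic_of_prime_card (p := p) ?_
      rw [← Subgroup.index_eq_card, hk, this, pow_one]
  exact ⟨⟨(commGroupOfCyclicCenterQuotient (QuotientGroup.mk' (Subgroup.center G))
    (by simp)).mul_comm⟩⟩

theorem false_of_centralizers [Finite T] [IsSimpleGroup T] (hna : ¬ IsMulCommutative T)
    (hN : ∀ x : T, x ≠ 1 → Subgroup.normalizer (C[x] : Set T) ≤ C[x])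
    (hP : ∀ (x : T) (j : ℕ), x ^ j ≠ 1 → C[x ^ j] ≤ C[x]) : False := by
  classical
  have : Fintype T := Fintype.ofFinite T
  -- commuting elements of coprime order have the same centralizer
  have hcop : ∀ a b : T, a ≠ 1 → b ≠ 1 → Commute a b → (orderOf a).Coprime (orderOf b) →
      C[b] ≤ C[a] := by
    intro a b ha hb hab hco
    have e1 : (a * b) ^ orderOf a = b ^ orderOf a := by
      rw [hab.mul_pow, pow_orderOf_eq_one, one_mul]
    have e2 : (a * b) ^ orderOf b = a ^ orderOf b := by
      rw [hab.mul_pow, pow_orderOf_eq_one b, mul_one]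
    have n1 : b ^ orderOf a ≠ 1 := fun h => hb (orderOf_eq_one_iff.1
      (Nat.eq_one_of_dvd_coprimes hco (orderOf_dvd_of_pow_eq_one h) dvd_rfl))
    have n2 : a ^ orderOf b ≠ 1 := fun h => ha (orderOf_eq_one_iff.1
      (Nat.eq_one_of_dvd_coprimes hco dvd_rfl (orderOf_dvd_of_pow_eq_one h)))
    calc C[b] ≤ C[b ^ orderOf a] := cent_le_cent_pow _ _
      _ = C[(a * b) ^ orderOf a] := by rw [e1]
      _ ≤ C[a * b] := hP _ _ (e1 ▸ n1)
      _ ≤ C[(a * b) ^ orderOf b] := cent_le_cent_pow _ _
      _ = C[a ^ orderOf b] := by rw [e2]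
      _ ≤ C[a] := hP _ _ n2
  -- centralizers of elements of prime order are Sylow subgroups
  have hprime : ∀ x : T, ∀ p : ℕ, Fact p.Prime → orderOf x = p → IsPGroup p C[x] := by
    intro x p hp hx
    have hx1 : x ≠ 1 := fun h => hp.out.ne_one (by rw [← hx, h, orderOf_one])
    by_contra hnp
    obtain ⟨q, hq, hqd, hqp⟩ : ∃ q, q.Prime ∧ q ∣ Nat.card C[x] ∧ q ≠ p := by
      by_contra hall
      refine hnp (IsPGroup.of_card (n := (Nat.card C[x]).factorization p) ?_)
      refine Nat.eq_pow_of_factorization_eq_single Nat.card_pos.ne' ?_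
      ext r
      by_cases hr : r = p
      · subst hr; simp
      · rw [Finsupp.single_eq_of_ne hr, Nat.factorization_eq_zero_iff]
        by_contra h'
        push Not at h'
        exact hall ⟨r, h'.1, h'.2.1, hr⟩
    have : Fact q.Prime := ⟨hq⟩
    obtain ⟨b, hb⟩ := exists_prime_orderOf_dvd_card' q hqd
    have hb' : orderOf (b : T) = q := by rw [Subgroup.orderOf_coe]; exact hb
    have hb1 : (b : T) ≠ 1 := fun h => hq.ne_one (by rw [← hb', h, orderOf_one])
    have hxb : Commute x (b : T) := mem_cent.1 b.2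
    have hpq : (orderOf x).Coprime (orderOf (b : T)) := by
      rw [hx, hb']; exact (Nat.coprime_primes hp.out hq).2 (Ne.symm hqp)
    have hMb : C[x] ≤ C[(b : T)] := hcop _ _ hb1 hx1 hxb.symm hpq.symm
    have hbM : C[(b : T)] ≤ C[x] := hcop _ _ hx1 hb1 hxb hpq
    have hcen : ∀ r : ℕ, ∀ [Fact r.Prime] (S : Sylow r C[x]),
        (S : Subgroup C[x]) ≤ Subgroup.center C[x] := by
      intro r hr S y hy
      rw [Subgroup.mem_center_iff]
      intro z
      by_cases hy1 : y = 1
      · simp [hy1]
      obtain ⟨k, hk⟩ := S.2 ⟨y, hy⟩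
      have hyk : (y : T) ^ r ^ k = 1 := by
        have := congrArg (fun t : (S : Subgroup C[x]) => ((t : C[x]) : T)) hk
        simpa using this
      obtain ⟨i, -, hi⟩ := (Nat.dvd_prime_pow hr.out).1 (orderOf_dvd_of_pow_eq_one hyk)
      have hy1' : (y : T) ≠ 1 := fun h => hy1 (Subtype.ext h)
      by_cases hrp : r = p
      · -- coprime to b
        have := hcop (y : T) (b : T) hy1' hb1 (mem_cent.1 (hMb y.2)).symm
          (by rw [hi, hb', hrp]
              exact ((Nat.coprime_primes hp.out hq).2 (Ne.symm hqp)).pow_left i) (hMb z.2)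
        exact Subtype.ext (mem_cent.1 this).symm
      · have := hcop (y : T) x hy1' hx1 (mem_cent.1 y.2).symm
          (by rw [hi, hx]; exact ((Nat.coprime_primes hr.out hp.out).2 hrp).pow_left i) z.2
        exact Subtype.ext (mem_cent.1 this).symm
    have hab : ∀ y ∈ C[x], ∀ z ∈ C[x], y * z = z * y := by
      have htop : Subgroup.center C[x] = ⊤ := by
        refine Subgroup.eq_top_of_card_eq _ (Nat.dvd_antisymm (Subgroup.card_subgroup_dvd_card _) ?_)
        refine (Nat.dvd_iff_prime_pow_dvd_dvd _ _).2 fun r k hr hrk => ?_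
        have : Fact r.Prime := ⟨hr⟩
        obtain ⟨S⟩ : Nonempty (Sylow r C[x]) := inferInstance
        refine dvd_trans ?_ (Subgroup.card_dvd_of_le (hcen r S))
        exact S.pow_dvd_card_of_pow_dvd_card hrk
      intro y hy z hz
      have hmem : (⟨z, hz⟩ : C[x]) ∈ Subgroup.center C[x] := by rw [htop]; trivial
      exact congrArg Subtype.val (Subgroup.mem_center_iff.1 hmem ⟨y, hy⟩)
    -- the p-part of the centralizer
    obtain ⟨S⟩ : Nonempty (Sylow p C[x]) := inferInstance
    have hxS : (⟨x, mem_cent.2 rfl⟩ : C[x]) ∈ (S : Subgroup C[x]) := by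
      have hSn : (S : Subgroup C[x]).Normal := ⟨fun n hn g => by
        rw [Subgroup.mem_center_iff.1 (hcen p S hn) g, mul_inv_cancel_right]; exact hn⟩
      have := Sylow.unique_of_normal S hSn
      have hxp : IsPGroup p (Subgroup.zpowers (⟨x, mem_cent.2 rfl⟩ : C[x])) :=
        IsPGroup.of_card (n := 1) (by rw [Nat.card_zpowers, ← Subgroup.orderOf_coe, hx, pow_one])
      obtain ⟨S', hS'⟩ := hxp.exists_le_sylow
      rw [Subsingleton.elim S S']
      exact hS' (Subgroup.mem_zpowers _)
    set P₀ : Subgroup T := (S : Subgroup C[x]).map (C[x]).subtype with hP₀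
    have hP₀le : P₀ ≤ C[x] := Subgroup.map_subtype_le _
    have hxP₀ : x ∈ P₀ := ⟨_, hxS, rfl⟩
    have hnorm : Subgroup.normalizer (P₀ : Set T) ≤ C[x] := by
      intro g hg
      refine hN x hx1 ?_
      have hgx : g * x * g⁻¹ ∈ C[x] := hP₀le ((Subgroup.mem_normalizer_iff.1 hg x).1 hxP₀)
      have hsub : C[x] ≤ C[g * x * g⁻¹] := fun c hc => mem_cent.2 (hab _ hgx c hc)
      have hcard : Nat.card C[g * x * g⁻¹] = Nat.card C[x] := by
        have e : (C[x]).map (MulAut.conj g).toMonoidHom = C[g * x * g⁻¹] := by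
          ext y
          rw [Subgroup.mem_map_equiv, mem_cent, mem_cent]
          simp only [MulAut.conj_symm_apply]
          constructor
          · intro h
            have := congrArg (fun t => g * t * g⁻¹) h
            simpa [mul_assoc] using this
          · intro h
            have := congrArg (fun t => g⁻¹ * t * g) h
            simpa [mul_assoc] using this
        rw [← e]
        exact (Nat.card_congr ((C[x]).equivMapOfInjective _ (MulAut.conj g).injective).toEquiv).symm
      have heq : C[x] = C[g * x * g⁻¹] := Subgroup.eq_of_le_of_card_ge hsub hcard.le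
      rw [Subgroup.mem_normalizer_iff]
      intro c
      rw [mem_cent]
      constructor
      · intro hc
        rw [heq, mem_cent]
        have := congrArg (fun t => g * t * g⁻¹) hc
        simpa [mul_assoc] using this
      · intro hc
        rw [heq, mem_cent] at hc
        have := congrArg (fun t => g⁻¹ * t * g) hc
        simpa [mul_assoc] using this
    have hSp : IsPGroup p P₀ := S.2.map _
    obtain ⟨R, hR⟩ := exists_sylow_eq hSp fun g hg hgp => by
      have hgC := hnorm hg
      obtain ⟨k, hk⟩ := hgp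
      have hg' : IsPGroup p (Subgroup.zpowers (⟨g, hgC⟩ : C[x])) := by
        rw [IsPGroup.iff_card]
        obtain ⟨i, -, hi⟩ := (Nat.dvd_prime_pow hp.out).1 (orderOf_dvd_of_pow_eq_one hk)
        exact ⟨i, by rw [Nat.card_zpowers, ← Subgroup.orderOf_coe]; exact hi⟩
      have hSn : (S : Subgroup C[x]).Normal := ⟨fun n hn h => by
        rw [Subgroup.mem_center_iff.1 (hcen p S hn) h, mul_inv_cancel_right]; exact hn⟩
      have := Sylow.unique_of_normal S hSn
      obtain ⟨S', hS'⟩ := hg'.exists_le_sylow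
      exact ⟨⟨g, hgC⟩, (Subsingleton.elim S S') ▸ hS' (Subgroup.mem_zpowers _), rfl⟩
    refine false_of_abelian_self_normalizing hna R (fun h => hx1 ?_) ?_
    · rw [hR] at h
      simpa [h] using hxP₀
    · show Subgroup.normalizer ((R : Subgroup T) : Set T) ≤ centralizer ((R : Subgroup T) : Set T)
      rw [hR]
      intro g hg
      rw [mem_centralizer_iff]
      exact fun c hc => hab c (hP₀le hc) g (hnorm hg)
  -- every centralizer is a self-normalizing Sylow subgroup
  have hall : ∀ y : T, y ≠ 1 → ∃ p : ℕ, ∃ _ : Fact p.Prime, p ∣ Nat.card T ∧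
      ∃ P : Sylow p T, (P : Subgroup T) = C[y] := by
    intro y hy
    obtain ⟨p, hp, hpd⟩ := Nat.exists_prime_and_dvd (mt orderOf_eq_one_iff.1 hy)
    have : Fact p.Prime := ⟨hp⟩
    set x := y ^ (orderOf y / p) with hx
    have hxo : orderOf x = p := orderOf_pow_orderOf_div (orderOf_pos y).ne' hpd
    have hx1 : x ≠ 1 := fun h => hp.ne_one (by rw [← hxo, h, orderOf_one])
    have heq : C[y] = C[x] := le_antisymm (cent_le_cent_pow _ _) (hP y _ hx1)
    refine ⟨p, this, hpd.trans (orderOf_dvd_natCard y), ?_⟩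
    rw [heq]
    exact exists_sylow_eq (hprime x p this hxo) fun g hg _ => hN x hx1 hg
  -- counting
  let A : ℕ → Finset T := fun p =>
    Finset.univ.filter fun y => y ≠ 1 ∧ ∃ P : Sylow p T, (P : Subgroup T) = C[y]
  have hcover : (Finset.univ.filter fun y : T => y ≠ 1) ⊆
      (Nat.card T).primeFactors.biUnion A := by
    intro y hy
    rw [Finset.mem_filter] at hy
    obtain ⟨p, hp, hpd, hyP⟩ := hall y hy.2
    rw [Finset.mem_biUnion]
    exact ⟨p, Nat.mem_primeFactors.2 ⟨hp.out, hpd, Nat.card_pos.ne'⟩, by simp [A, hy.2, hyP]⟩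
  have hbound : ∀ p ∈ (Nat.card T).primeFactors,
      ((A p).card : ℚ) < Nat.card T * (1 / (p : ℚ) ^ 2) := by
    intro p hp
    have : Fact p.Prime := ⟨Nat.prime_of_mem_primeFactors hp⟩
    have hTpos : (0 : ℕ) < Nat.card T := Nat.card_pos
    have hp0 : (0 : ℚ) < (p : ℚ) ^ 2 :=
      pow_pos (by exact_mod_cast (Fact.out : p.Prime).pos) 2
    rw [mul_one_div, lt_div_iff₀ hp0]
    suffices (A p).card * p ^ 2 < Nat.card T by exact_mod_cast this
    by_cases hA : A p = ∅
    · rw [hA]; simpa using hTpos
    obtain ⟨y₀, hy₀⟩ := Finset.nonempty_iff_ne_empty.2 hA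
    simp only [A, Finset.mem_filter, Finset.mem_univ, true_and] at hy₀
    obtain ⟨hy₀1, P₀, hP₀⟩ := hy₀
    have : Fintype (Sylow p T) := Fintype.ofFinite _
    let f : Sylow p T → Finset T := fun P => (A p).filter fun y => (P : Subgroup T) = C[y]
    have hsub : A p ⊆ Finset.univ.biUnion f := by
      intro y hy
      have hy' := hy
      simp only [A, Finset.mem_filter, Finset.mem_univ, true_and] at hy'
      obtain ⟨-, P, hP'⟩ := hy'
      exact Finset.mem_biUnion.2 ⟨P, Finset.mem_univ _, Finset.mem_filter.2 ⟨hy, hP'⟩⟩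
    have hf : ∀ P : Sylow p T, ((f P).card + 1) * p ^ 2 ≤ Nat.card P₀ ∨ f P = ∅ := by
      intro P
      by_cases hfe : f P = ∅
      · exact Or.inr hfe
      left
      obtain ⟨y, hy⟩ := Finset.nonempty_iff_ne_empty.2 hfe
      simp only [f, A, Finset.mem_filter, Finset.mem_univ, true_and] at hy
      obtain ⟨⟨hy1, -⟩, hPy⟩ := hy
      have hnaP : ¬ IsMulCommutative (P : Subgroup T) := by
        intro hc
        refine false_of_abelian_self_normalizing hna P (fun h => hy1 ?_) ?_
        · have : y ∈ (P : Subgroup T) := hPy ▸ mem_cent.2 rfl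
          rwa [h, Subgroup.mem_bot] at this
        · show Subgroup.normalizer ((P : Subgroup T) : Set T) ≤
            centralizer ((P : Subgroup T) : Set T)
          intro g hg
          have hgP : g ∈ (P : Subgroup T) := hPy ▸ hN y hy1 (hPy ▸ hg)
          rw [mem_centralizer_iff]
          exact fun c hc' => congrArg Subtype.val
            (hc.is_comm.comm (⟨c, hc'⟩ : (P : Subgroup T)) ⟨g, hgP⟩)
      have hidx := index_center_ge P.2 hnaP
      have hle : (f P).card + 1 ≤ Nat.card (Subgroup.center (P : Subgroup T)) := by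
        have h1 : insert 1 (f P) ⊆
            ((Subgroup.center (P : Subgroup T)).map (P : Subgroup T).subtype : Set T).toFinset := by
          intro z hz
          rw [Set.mem_toFinset, SetLike.mem_coe]
          rcases Finset.mem_insert.1 hz with rfl | hz
          · exact one_mem _
          · simp only [f, Finset.mem_filter] at hz
            have hzP : z ∈ (P : Subgroup T) := hz.2 ▸ mem_cent.2 rfl
            refine ⟨⟨z, hzP⟩, Subgroup.mem_center_iff.2 fun w => Subtype.ext ?_, rfl⟩
            exact (mem_cent.1 (hz.2 ▸ w.2 : (w : T) ∈ C[z])).symm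
        have h2 := Finset.card_le_card h1
        rw [Finset.card_insert_of_notMem (by simp [f, A]), Set.toFinset_card,
          ← Nat.card_eq_fintype_card] at h2
        exact h2.trans_eq (Nat.card_congr ((Subgroup.center (P : Subgroup T)).equivMapOfInjective _
          Subtype.val_injective).toEquiv).symm
      calc ((f P).card + 1) * p ^ 2
          ≤ Nat.card (Subgroup.center (P : Subgroup T)) * (Subgroup.center (P : Subgroup T)).index :=
            Nat.mul_le_mul hle hidx
        _ = Nat.card (P : Subgroup T) := Subgroup.card_mul_index _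
        _ = Nat.card P₀ := by rw [P.card_eq_multiplicity, P₀.card_eq_multiplicity]
    have hn : Nat.card (Sylow p T) * Nat.card P₀ ≤ Nat.card T := by
      refine le_of_eq ?_
      rw [Sylow.card_eq_index_normalizer P₀]
      have : Subgroup.normalizer ((P₀ : Subgroup T) : Set T) = (P₀ : Subgroup T) := by
        refine le_antisymm ?_ Subgroup.le_normalizer
        rw [hP₀]; exact hN y₀ hy₀1
      rw [show Subgroup.normalizer (P₀ : Set T) = (P₀ : Subgroup T) from this]
      exact Subgroup.index_mul_card _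
    have hy₀mem : y₀ ∈ A p := by
      simp only [A, Finset.mem_filter, Finset.mem_univ, true_and]
      exact ⟨hy₀1, P₀, hP₀⟩
    have hlt : (A p).card * p ^ 2 < ∑ _P : Sylow p T, Nat.card P₀ := by
      calc (A p).card * p ^ 2 ≤ (∑ P : Sylow p T, (f P).card) * p ^ 2 :=
            Nat.mul_le_mul_right _ ((Finset.card_le_card hsub).trans Finset.card_biUnion_le)
        _ = ∑ P : Sylow p T, (f P).card * p ^ 2 := Finset.sum_mul ..
        _ < ∑ _P : Sylow p T, Nat.card P₀ := by
          refine Finset.sum_lt_sum_of_nonempty Finset.univ_nonempty fun P _ => ?_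
          rcases hf P with h | h
          · have : 0 < p ^ 2 := pow_pos (Fact.out : p.Prime).pos 2
            calc (f P).card * p ^ 2 < ((f P).card + 1) * p ^ 2 :=
                  Nat.mul_lt_mul_of_pos_right (Nat.lt_succ_self _) this
              _ ≤ _ := h
          · simp only [h, Finset.card_empty, zero_mul]; exact Nat.card_pos
    rw [Finset.sum_const, Finset.card_univ, smul_eq_mul, ← Nat.card_eq_fintype_card] at hlt
    exact hlt.trans_le hn
  have hTnt : 2 ≤ Nat.card T := Finite.one_lt_card
  have hpf : (Nat.card T).primeFactors.Nonempty := by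
    rw [Nat.nonempty_primeFactors]; omega
  have h1 : (Finset.univ.filter fun y : T => y ≠ 1).card = Nat.card T - 1 := by
    rw [Finset.filter_ne', Finset.card_erase_of_mem (Finset.mem_univ _), Finset.card_univ,
      ← Nat.card_eq_fintype_card]
  have h2 : ((Nat.card T - 1 : ℕ) : ℚ) < Nat.card T * ∑ p ∈ (Nat.card T).primeFactors,
      (1 / (p : ℚ) ^ 2) := by
    calc ((Nat.card T - 1 : ℕ) : ℚ) ≤ ∑ p ∈ (Nat.card T).primeFactors, ((A p).card : ℚ) := by
          rw [← h1]
          exact_mod_cast (Finset.card_le_card hcover).trans Finset.card_biUnion_le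
      _ < ∑ p ∈ (Nat.card T).primeFactors, (Nat.card T : ℚ) * (1 / (p : ℚ) ^ 2) :=
          Finset.sum_lt_sum_of_nonempty hpf hbound
      _ = _ := by rw [Finset.mul_sum]
  have h3 := sum_inv_sq_le (Nat.card T) hTnt _ fun p hp =>
    ⟨(Nat.prime_of_mem_primeFactors hp).two_le, Nat.le_of_mem_primeFactors hp⟩
  have hT0 : (0 : ℚ) < (Nat.card T : ℚ) := by exact_mod_cast Nat.card_pos
  have h4 := mul_le_mul_of_nonneg_left h3 hT0.le
  rw [mul_sub, mul_one_div, div_self hT0.ne', mul_one] at h4
  have h5 : ((Nat.card T - 1 : ℕ) : ℚ) = (Nat.card T : ℚ) - 1 := by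
    push_cast [Nat.cast_sub (show 1 ≤ Nat.card T by omega)]; ring
  linarith

end CfsgLib.ExtPrim
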