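import Cfsg.Agent.ExtPrim.Manning
import Cfsg.Agent.ExtPrim.Centralizers
import Cfsg.Agent.ExtPrim.MinNormal

/-! An extremely primitive group is of affine type or almost simple. -/

set_option autoImplicit false

namespace CfsgLib.ExtPrim

open MulAction

variable {G Ω : Type*} [Group G] [MulAction G Ω]

theorem imem {H : Subgroup G} {x : G} (h : x ∈ H) : x⁻¹ ∈ H := H.inv_mem h

theorem mmem {H : Subgroup G} {x y : G} (hx : x ∈ H) (hy : y ∈ H) : x * y ∈ H := H.mul_mem hx hy

theorem pmem {H : Subgroup G} {x : G} (h : x ∈ H) (n : ℕ) : x ^ n ∈ H := H.pow_mem h n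

theorem mem_normalizer_of_conj_mem [Finite G] {D : Subgroup G} {y : G}
    (h : ∀ w ∈ D, y * w * y⁻¹ ∈ D) : y ∈ Subgroup.normalizer (D : Set G) := by
  have hle : D.map (MulAut.conj y).toMonoidHom ≤ D := by
    rintro _ ⟨w, hw, rfl⟩; exact h w hw
  have heq : D.map (MulAut.conj y).toMonoidHom = D :=
    Subgroup.eq_of_le_of_card_ge hle (card_cj y D).ge
  rw [Subgroup.mem_normalizer_iff]
  intro w
  refine ⟨h w, fun hw => ?_⟩
  rw [← heq] at hw
  obtain ⟨v, hv, hvw⟩ := hw
  have : v = w := (MulAut.conj y).injective hvw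
  exact this ▸ hv

theorem smul_smul_conj {a : Ω} {h : G} (hh : h • a = a) (n : G) :
    h • n • a = (h * n * h⁻¹) • a := by
  rw [mul_smul, mul_smul, inv_smul_eq_iff.2 hh.symm]

theorem inv_mul_mem_stabilizer {a : Ω} {u t : G} (h : u • a = t • a) :
    t⁻¹ * u ∈ stabilizer G a := by
  rw [mem_stabilizer_iff, mul_smul, h, inv_smul_smul]

section Main

variable [Finite G] [FaithfulSMul G Ω] [Finite Ω] [IsPreprimitive G Ω]
  (hH : ∀ a : Ω, stabilizer G a ≠ ⊥)
  (hep : ∀ a b : Ω, IsPreprimitive (stabilizer G a) (orbit (stabilizer G a) b))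

include hH in
theorem not_le_stabilizer {α x : Ω} (hx : x ≠ α) : ¬ stabilizer G α ≤ stabilizer G x := by
  intro hle
  have : Nontrivial Ω := ⟨⟨x, α, hx⟩⟩
  rcases hle.eq_or_lt with h | h
  · exact stabilizer_ne hx.symm (hH α) h
  · exact (IsPreprimitive.isCoatom_stabilizer_of_isPreprimitive (G := G) x).1
      ((IsPreprimitive.isCoatom_stabilizer_of_isPreprimitive (G := G) α).2 _ h)

include hH hep in
/-- A non-trivial normal subgroup of a point stabilizer has the same orbits. -/
theorem exists_smul_eq_of_normal {α x : Ω} (hx : x ≠ α) (M : Subgroup G)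
    (hM : M ≤ stabilizer G α) (hMn : stabilizer G α ≤ Subgroup.normalizer (M : Set G))
    (hne : M ≠ ⊥) {h : G} (hh : h ∈ stabilizer G α) : ∃ m ∈ M, m • x = h • x := by
  rcases dichotomy (hep α x) M hM hMn with hd | hd
  · refine absurd ((Subgroup.eq_bot_iff_forall _).2 fun k hk => ?_) hne
    exact manning hH hep hx (hM hk) (hd k hk)
  · exact hd x (mem_orbit_self x) _ ⟨⟨h, hh⟩, rfl⟩

include hH hep in
/-- Two-point stabilizers are maximal in one-point stabilizers. -/
theorem eq_or_eq_of_le {α x : Ω} (hx : x ≠ α) (K : Subgroup G)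
    (h1 : stabilizer G α ⊓ stabilizer G x ≤ K) (h2 : K ≤ stabilizer G α) :
    K ≤ stabilizer G x ∨ stabilizer G α ≤ K := by
  have := hep α x
  have : Nontrivial (orbit (stabilizer G α) x) := by
    obtain ⟨g, hg, hgx⟩ := SetLike.not_le_iff_exists.1 (not_le_stabilizer hH hx)
    exact ⟨⟨⟨g • x, ⟨g, hg⟩, rfl⟩, ⟨x, mem_orbit_self x⟩, fun e => hgx (congrArg Subtype.val e)⟩⟩
  have hc := IsPreprimitive.isCoatom_stabilizer_of_isPreprimitive
    (G := stabilizer G α) (⟨x, mem_orbit_self x⟩ : orbit (stabilizer G α) x)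
  have hle : stabilizer (stabilizer G α) (⟨x, mem_orbit_self x⟩ : orbit (stabilizer G α) x) ≤
      K.subgroupOf (stabilizer G α) := fun g hg =>
    h1 ⟨g.2, congrArg Subtype.val (mem_stabilizer_iff.1 hg)⟩
  rcases hle.eq_or_lt with h | h
  · left
    intro k hk
    have : (⟨k, h2 hk⟩ : stabilizer G α) ∈ K.subgroupOf (stabilizer G α) := hk
    rw [← h] at this
    exact congrArg Subtype.val (mem_stabilizer_iff.1 this)
  · right
    exact Subgroup.subgroupOf_eq_top.1 (hc.2 _ h)

include hH hep in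
theorem stabilizer_le_of_le {α x y : Ω} (hx : x ≠ α) (hy : y ≠ α)
    (h : stabilizer G α ⊓ stabilizer G x ≤ stabilizer G y) :
    stabilizer G α ⊓ stabilizer G y ≤ stabilizer G x := by
  rcases eq_or_eq_of_le hH hep hx (stabilizer G α ⊓ stabilizer G y) (le_inf inf_le_left h)
    inf_le_left with h' | h'
  · exact h'
  · exact absurd (h'.trans inf_le_right) (not_le_stabilizer hH hy)

include hH hep in
/-- A configuration impossible in an extremely primitive group. -/
theorem false_of_configuration (α : Ω) (T M : Subgroup G) (hTs : IsSimpleGroup T)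
    (hna : ¬ IsMulCommutative T) (hTα : T ⊓ stabilizer G α = ⊥)
    (hM : M ≤ stabilizer G α) (hMn : stabilizer G α ≤ Subgroup.normalizer (M : Set G))
    (hdec : ∀ m ∈ M, ∃ s ∈ T, ∃ c, (∀ t ∈ T, Commute t c) ∧ m = s * c)
    (hlift : ∀ s ∈ T, ∃ c, (∀ t ∈ T, Commute t c) ∧ s * c ∈ M)
    (hpow : ∀ h ∈ stabilizer G α, ∀ t ∈ T, ∀ j : ℕ,
      h • t • α = t • α → h • t ^ j • α = t ^ j • α) : False := by
  have hinj : ∀ u ∈ T, ∀ t ∈ T, u • α = t • α → u = t := by
    intro u hu t ht h
    have : t⁻¹ * u ∈ T ⊓ stabilizer G α :=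
      ⟨mmem (imem ht) hu, inv_mul_mem_stabilizer h⟩
    rw [hTα, Subgroup.mem_bot, inv_mul_eq_one] at this
    exact this.symm
  have hneα : ∀ t ∈ T, t ≠ 1 → t • α ≠ α := fun t ht ht1 h =>
    ht1 (hinj t ht 1 (one_mem _) (by rw [one_smul, h]))
  have hfix : ∀ s ∈ T, ∀ c, (∀ t ∈ T, Commute t c) → s * c ∈ M → ∀ t ∈ T,
      ((s * c) • t • α = t • α ↔ s * t = t * s) := by
    intro s hs c hc hsc t ht
    have e : s * c * t * (s * c)⁻¹ = s * t * s⁻¹ := by
      rw [mul_assoc s c t, ← (hc t ht).eq, mul_inv_rev]; simp [mul_assoc]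
    rw [smul_smul_conj (mem_stabilizer_iff.1 (hM hsc)), e]
    constructor
    · intro h
      exact mul_inv_eq_iff_eq_mul.1 (hinj _ (mmem (mmem hs ht) (imem hs)) t ht h)
    · intro h
      rw [h, mul_inv_cancel_right]
  have hcenter : ∀ t : T, (∀ s : T, s * t = t * s) → t = 1 := by
    intro t ht
    rcases (inferInstance : (Subgroup.center T).Normal).eq_bot_or_eq_top with h | h
    · have : t ∈ Subgroup.center T := Subgroup.mem_center_iff.2 ht
      rwa [h, Subgroup.mem_bot] at this
    · refine absurd ⟨⟨fun a b => ?_⟩⟩ hna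
      exact Subgroup.mem_center_iff.1 (h ▸ Subgroup.mem_top b : b ∈ Subgroup.center T) a
  refine false_of_centralizers (T := T) hna ?_ ?_
  · -- self-normalizing
    intro t ht1 s hs
    rw [mem_cent]
    apply Subtype.ext
    simp only [Subgroup.coe_mul]
    have htne : (t : G) ≠ 1 := fun h => ht1 (Subtype.ext h)
    obtain ⟨c, hc, hsc⟩ := hlift s s.2
    set L : Subgroup G := M ⊓ stabilizer G ((t : G) • α) with hL
    set x : Ω := (t : G) • α with hx
    have hxα : x ≠ α := hneα t t.2 htne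
    have hK0 : stabilizer G α ⊓ stabilizer G x ≤
        stabilizer G α ⊓ Subgroup.normalizer (L : Set G) := by
      refine le_inf inf_le_left fun g hg => mem_normalizer_of_conj_mem fun w hw => ⟨?_, ?_⟩
      · exact (Subgroup.mem_normalizer_iff.1 (hMn hg.1) w).1 hw.1
      · exact mmem (mmem hg.2 hw.2) (imem hg.2)
    have hmL : s.1 * c ∈ Subgroup.normalizer (L : Set G) := by
      refine mem_normalizer_of_conj_mem fun w hw => ⟨?_, ?_⟩
      · exact mmem (mmem hsc hw.1) (imem hsc)
      · obtain ⟨u, hu, d, hd, rfl⟩ := hdec w hw.1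
        have hut := (hfix u hu d hd hw.1 t t.2).1 hw.2
        have hcd : ∀ r ∈ T, Commute r (c * d * c⁻¹) := fun r hr =>
          ((hc r hr).mul_right (hd r hr)).mul_right (hc r hr).inv_right
        have e : s.1 * c * (u * d) * (s.1 * c)⁻¹ = (s.1 * u * s.1⁻¹) * (c * d * c⁻¹) :=
          calc s.1 * c * (u * d) * (s.1 * c)⁻¹
              = s.1 * (c * u) * (d * c⁻¹) * s.1⁻¹ := by simp [mul_assoc]
            _ = s.1 * u * ((c * d * c⁻¹) * s.1⁻¹) := by
              rw [← (hc u hu).eq]; simp [mul_assoc]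
            _ = _ := by rw [← ((hcd s.1 s.2).inv_left).eq]; simp [mul_assoc]
        have hmem : s.1 * u * s.1⁻¹ ∈ T := mmem (mmem s.2 hu) (imem s.2)
        rw [e]
        refine mem_stabilizer_iff.2 ((hfix _ hmem _ hcd (e ▸ mmem (mmem hsc hw.1)
          (imem hsc)) t t.2).2 ?_)
        have hu' : (⟨u, hu⟩ : T) ∈ Subgroup.centralizer ({t} : Set T) :=
          mem_cent.2 (Subtype.ext hut.symm)
        have := mem_cent.1 ((Subgroup.mem_normalizer_iff.1 hs _).1 hu')
        exact (congrArg Subtype.val this).symm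
    rcases eq_or_eq_of_le hH hep hxα _ hK0 inf_le_left with h | h
    · exact ((hfix s s.2 c hc hsc t t.2).1 (h ⟨hM hsc, hmL⟩)).symm
    · exfalso
      apply not_le_stabilizer hH hxα
      intro g hg
      have hLne : L ≠ ⊥ := by
        obtain ⟨d, hd, htd⟩ := hlift t t.2
        intro hbot
        have hmem : (t : G) * d ∈ L :=
          ⟨htd, (hfix t t.2 d hd htd t t.2).2 rfl⟩
        rw [hbot, Subgroup.mem_bot] at hmem
        have hd' : d = (t : G)⁻¹ := eq_inv_of_mul_eq_one_right hmem
        refine htne (congrArg Subtype.val (hcenter t fun r => Subtype.ext ?_))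
        have := hd r r.2
        rw [hd'] at this
        exact (Commute.inv_right_iff.1 this).eq
      obtain ⟨m, hm, hmx⟩ := exists_smul_eq_of_normal hH hep hxα L
        (inf_le_left.trans hM) (h.trans inf_le_right) hLne hg
      exact mem_stabilizer_iff.2 (hmx.symm.trans hm.2)
  · -- powers
    intro t j htj s hs
    rw [mem_cent] at hs ⊢
    apply Subtype.ext
    simp only [Subgroup.coe_mul]
    have hs' : (t : G) ^ j * s = s * (t : G) ^ j := by
      simpa using congrArg Subtype.val hs
    have htj' : (t : G) ^ j ≠ 1 := fun h => htj (Subtype.ext (by simpa using h))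
    have ht' : (t : G) ≠ 1 := fun h => htj' (by rw [h, one_pow])
    obtain ⟨c, hc, hsc⟩ := hlift s s.2
    have hle : stabilizer G α ⊓ stabilizer G ((t : G) • α) ≤
        stabilizer G ((t : G) ^ j • α) := fun g hg =>
      mem_stabilizer_iff.2 (hpow g hg.1 t t.2 j hg.2)
    have := stabilizer_le_of_le hH hep (hneα t t.2 ht')
      (hneα _ (pmem t.2 j) htj') hle
      ⟨hM hsc, mem_stabilizer_iff.2 ((hfix s s.2 c hc hsc _ (pmem t.2 j)).2 hs'.symm)⟩
    exact ((hfix s s.2 c hc hsc t t.2).1 this).symm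

theorem exists_two_primes {T : Type*} [Group T] [Finite T] [IsSimpleGroup T]
    (hna : ¬ IsMulCommutative T) :
    ∃ a b : T, (orderOf a).Prime ∧ (orderOf b).Prime ∧ orderOf a ≠ orderOf b := by
  obtain ⟨p, hp, hpd⟩ := Nat.exists_prime_and_dvd (Finite.one_lt_card (α := T)).ne'
  have : Fact p.Prime := ⟨hp⟩
  obtain ⟨a, ha⟩ := exists_prime_orderOf_dvd_card' p hpd
  by_cases hq : ∃ q, q.Prime ∧ q ∣ Nat.card T ∧ q ≠ p
  · obtain ⟨q, hq, hqd, hqp⟩ := hq
    have : Fact q.Prime := ⟨hq⟩
    obtain ⟨b, hb⟩ := exists_prime_orderOf_dvd_card' q hqd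
    exact ⟨a, b, ha ▸ hp, hb ▸ hq, by rw [ha, hb]; exact hqp.symm⟩
  · exfalso
    have hT : IsPGroup p T := by
      refine IsPGroup.of_card (n := (Nat.card T).factorization p) ?_
      refine Nat.eq_pow_of_factorization_eq_single Nat.card_pos.ne' ?_
      ext r
      by_cases hr : r = p
      · subst hr; simp
      · rw [Finsupp.single_eq_of_ne hr, Nat.factorization_eq_zero_iff]
        by_contra h'
        push Not at h'
        exact hq ⟨r, h'.1, h'.2.1, hr⟩
    have := hT.center_nontrivial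
    rcases (inferInstance : (Subgroup.center T).Normal).eq_bot_or_eq_top with h | h
    · exact (Subgroup.nontrivial_iff_ne_bot _).1 this h
    · exact hna ⟨⟨fun x y =>
        Subgroup.mem_center_iff.1 (h ▸ Subgroup.mem_top y : y ∈ Subgroup.center T) x⟩⟩

include hH hep in
theorem affine_or_almostSimple [Nontrivial Ω] (α : Ω)
    (hab : ∀ A : Subgroup G, A.Normal → IsMulCommutative A → A = ⊥) :
    ∃ T : Subgroup G, T.Normal ∧ IsSimpleGroup T ∧ ¬ IsMulCommutative T ∧
      Subgroup.centralizer (T : Set G) = ⊥ := by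
  classical
  by_contra hgoal
  have hco := IsPreprimitive.isCoatom_stabilizer_of_isPreprimitive (G := G) α
  have htrans : ∀ N : Subgroup G, N.Normal → N ≠ ⊥ → IsPretransitive N Ω := by
    intro N hN hne
    refine IsPreprimitive.isQuasiPreprimitive.isPretransitive_of_normal fun h => hne ?_
    refine (Subgroup.eq_bot_iff_forall _).2 fun n hn => eq_of_smul_eq_smul (α := Ω) fun x => ?_
    have hx : x ∈ fixedPoints N Ω := by rw [h]; trivial
    rw [one_smul]
    exact hx ⟨n, hn⟩
  -- a minimal normal subgroup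
  obtain ⟨N, hNn, hN0, hmin⟩ : ∃ N : Subgroup G, N.Normal ∧ N ≠ ⊥ ∧
      ∀ K : Subgroup G, K.Normal → K ≤ N → K = ⊥ ∨ K = N := by
    have : Fintype (Subgroup G) := Fintype.ofFinite _
    obtain ⟨N, hN, hNmin⟩ := Finset.exists_min_image
      (Finset.univ.filter fun N : Subgroup G => N.Normal ∧ N ≠ ⊥)
      (fun N : Subgroup G => Nat.card N)
      ⟨⊤, by
        simp only [Finset.mem_filter, Finset.mem_univ, true_and]
        refine ⟨inferInstance, fun h => hH α ?_⟩
        exact le_bot_iff.1 (h ▸ le_top)⟩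
    simp only [Finset.mem_filter, Finset.mem_univ, true_and] at hN hNmin
    refine ⟨N, hN.1, hN.2, fun K hK hKN => ?_⟩
    by_cases hK0 : K = ⊥
    · exact Or.inl hK0
    · exact Or.inr (Subgroup.eq_of_le_of_card_ge hKN (hNmin K ⟨hK, hK0⟩))
  have hNna : ¬ IsMulCommutative N := fun h => hN0 (hab N hNn h)
  obtain ⟨T, hT⟩ := exists_isFactor N hN0 hmin hNna
  have hNt := htrans N hNn hN0
  have hNH : ∀ g : G, ∃ n ∈ N, ∃ h ∈ stabilizer G α, g = n * h := by
    intro g
    obtain ⟨⟨n, hn⟩, hna'⟩ := exists_smul_eq N α (g • α)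
    exact ⟨n, hn, n⁻¹ * g, inv_mul_mem_stabilizer hna'.symm, by simp⟩
  have hcjH : ∀ g : G, ∃ h ∈ stabilizer G α, cj g T = cj h T := by
    intro g
    obtain ⟨n, hn, h, hh, rfl⟩ := hNH g
    exact ⟨h, hh, by rw [← cj_cj, (hT.cj h).cj_eq_of_mem hn]⟩
  have hTcen : ∀ F : Subgroup G, IsFactor N F → ∀ t ∈ F, (∀ s ∈ F, Commute s t) → t = 1 := by
    intro F hF t ht h
    have := hF.simple
    rcases (inferInstance : (Subgroup.center F).Normal).eq_bot_or_eq_top with hz | hz
    · have : (⟨t, ht⟩ : F) ∈ Subgroup.center F :=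
        Subgroup.mem_center_iff.2 fun s => Subtype.ext (h s s.2)
      rw [hz, Subgroup.mem_bot] at this
      exact congrArg Subtype.val this
    · exact absurd ⟨⟨fun a b => Subgroup.mem_center_iff.1
        (hz ▸ Subgroup.mem_top b : b ∈ Subgroup.center F) a⟩⟩ hF.nonab
  by_cases hone : ∀ h ∈ stabilizer G α, cj h T = T
  · -- N is simple
    have hoth : others T = ⊥ := by
      refine le_bot_iff.1 (iSup₂_le fun g hg => ?_)
      obtain ⟨h, hh, e⟩ := hcjH g
      exact absurd (e.trans (hone h hh)) hg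
    have hTN : T = N := by rw [← hT.sup_others, hoth, sup_bot_eq]
    subst hTN
    set C : Subgroup G := Subgroup.centralizer (T : Set G) with hC
    by_cases hC0 : C = ⊥
    · exact hgoal ⟨T, hNn, hT.simple, hT.nonab, hC0⟩
    have hCn : C.Normal := inferInstance
    have hCt := htrans C hCn hC0
    have hTα : T ⊓ stabilizer G α = ⊥ := by
      refine (Subgroup.eq_bot_iff_forall _).2 fun t ht => eq_of_smul_eq_smul (α := Ω) fun x => ?_
      obtain ⟨⟨c, hc⟩, hcx⟩ := exists_smul_eq C α x
      have hcx' : c • α = x := hcx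
      rw [one_smul, ← hcx', ← mul_smul, Subgroup.mem_centralizer_iff.1 hc t ht.1, mul_smul,
        mem_stabilizer_iff.1 ht.2]
    refine false_of_configuration hH hep α T (stabilizer G α ⊓ (T ⊔ C)) hT.simple hT.nonab hTα
      inf_le_left ?_ ?_ ?_ ?_
    · intro g hg
      refine mem_normalizer_of_conj_mem fun w hw =>
        ⟨mmem (mmem hg hw.1) (imem hg), ?_⟩
      exact (inferInstance : (T ⊔ C).Normal).conj_mem w hw.2 g
    · intro m hm
      obtain ⟨s, hs, c, hc, rfl⟩ := exists_mul_of_le_normalizer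
        (Subgroup.centralizer_le_normalizer _) hm.2
      exact ⟨s, hs, c, fun t ht => Subgroup.mem_centralizer_iff.1 hc t ht, rfl⟩
    · intro s hs
      obtain ⟨⟨c, hc⟩, hcs⟩ := exists_smul_eq C α (s • α)
      refine ⟨c⁻¹, fun t ht => Subgroup.mem_centralizer_iff.1 (imem hc) t ht, ?_,
        Subgroup.mul_mem_sup hs (imem hc)⟩
      have hcomm : Commute s c⁻¹ := Subgroup.mem_centralizer_iff.1 (imem hc) s hs
      rw [hcomm.eq]
      exact inv_mul_mem_stabilizer hcs.symm
    · intro h hh t ht j hfix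
      rw [smul_smul_conj hh] at hfix ⊢
      have : t⁻¹ * (h * t * h⁻¹) ∈ T ⊓ stabilizer G α :=
        ⟨mmem (imem ht) (hNn.conj_mem t ht h), inv_mul_mem_stabilizer hfix⟩
      rw [hTα, Subgroup.mem_bot, inv_mul_eq_one] at this
      rw [← conj_pow, ← this]
  push Not at hone
  obtain ⟨h₀, hh₀, hh₀T⟩ := hone
  by_cases hM0 : N ⊓ stabilizer G α = ⊥
  · -- N regular
    have hinj : ∀ u ∈ N, ∀ n ∈ N, u • α = n • α → u = n := by
      intro u hu n hn h
      have : n⁻¹ * u ∈ N ⊓ stabilizer G α := ⟨mmem (imem hn) hu, inv_mul_mem_stabilizer h⟩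
      rw [hM0, Subgroup.mem_bot, inv_mul_eq_one] at this
      exact this.symm
    have hfix : ∀ h ∈ stabilizer G α, ∀ n ∈ N, (h • n • α = n • α ↔ h * n = n * h) := by
      intro h hh n hn
      rw [smul_smul_conj hh]
      constructor
      · exact fun e => mul_inv_eq_iff_eq_mul.1 (hinj _ (hNn.conj_mem n hn h) n hn e)
      · intro e; rw [e, mul_inv_cancel_right]
    have hneα : ∀ n ∈ N, n ≠ 1 → n • α ≠ α := fun n hn h1 h =>
      h1 (hinj n hn 1 (one_mem _) (by rw [one_smul, h]))
    -- stabilizers of points of a factor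
    have hfact : ∀ F, IsFactor N F → (∃ g ∈ stabilizer G α, cj g F ≠ F) →
        ∀ t ∈ F, t ≠ 1 → ∀ h ∈ stabilizer G α, (h * t = t * h ↔ cj h F = F) := by
      intro F hF ⟨g, hg, hgF⟩ t ht ht1
      have hsub : ∀ h ∈ stabilizer G α, h * t = t * h → cj h F = F := by
        intro h hh e
        by_contra hne
        have h2 : t ∈ others F := cj_le_others hne (by
          rw [mem_cj, mul_assoc, ← e, inv_mul_cancel_left]; exact ht)
        exact ht1 (Subgroup.mem_bot.1 (hF.inf_others ▸ (⟨ht, h2⟩ : t ∈ F ⊓ others F)))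
      intro h hh
      refine ⟨hsub h hh, fun hhF => ?_⟩
      let K : Subgroup G :=
        { carrier := {k | k ∈ stabilizer G α ∧ cj k F = F}
          one_mem' := ⟨one_mem _, cj_one F⟩
          mul_mem' := fun {a b} ha hb => ⟨mmem ha.1 hb.1, by rw [← cj_cj, hb.2, ha.2]⟩
          inv_mem' := fun {a} ha => ⟨imem ha.1, by
            conv_lhs => rw [← ha.2]
            rw [cj_cj, inv_mul_cancel, cj_one]⟩ }
      have htα := hneα t (hF.le ht) ht1
      rcases eq_or_eq_of_le hH hep htα K
          (fun k hk => ⟨hk.1, hsub k hk.1 ((hfix k hk.1 t (hF.le ht)).1 hk.2)⟩)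
          (fun k hk => hk.1) with h' | h'
      · exact (hfix h hh t (hF.le ht)).1 (h' ⟨hh, hhF⟩)
      · exact absurd (h' hg).2 hgF
    have hmoved : ∀ g : G, ∃ k ∈ stabilizer G α, cj k (cj g T) ≠ cj g T := by
      intro g
      obtain ⟨h, hh, e⟩ := hcjH g
      refine ⟨h * h₀ * h⁻¹, mmem (mmem hh hh₀) (imem hh), fun e' => hh₀T ?_⟩
      rw [e, cj_cj, inv_mul_cancel_right, ← cj_cj] at e'
      exact Subgroup.map_injective (MulAut.conj h).injective e'
    -- the normalizer of one factor fixes every factor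
    have hall : ∀ h ∈ stabilizer G α, cj h T = T → ∀ g, cj h (cj g T) = cj g T := by
      intro h hh hhT g
      by_cases hgT : cj g T = T
      · rw [hgT, hhT]
      have := hT.simple
      obtain ⟨a, b, hpa, hpb, hne⟩ := exists_two_primes hT.nonab
      set t : G := ((a : T) : G) with ht
      set t' : G := g * b * g⁻¹ with ht'
      have hco : Nat.Coprime (orderOf t) (orderOf t') := by
        rw [ht, ht', Subgroup.orderOf_coe,
          show g * (b : G) * g⁻¹ = MulAut.conj g (b : G) from rfl,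
          MulEquiv.orderOf_eq, Subgroup.orderOf_coe]
        exact (Nat.coprime_primes hpa hpb).2 hne
      have ht'F : t' ∈ cj g T := conj_mem_cj b.2
      have hc : Commute t t' := hT.commute a.2 (cj_le_others hgT ht'F)
      have ht1 : t ≠ 1 := fun e => hpa.ne_one (by rw [← Subgroup.orderOf_coe, ← ht, e, orderOf_one])
      have ht'1 : t' ≠ 1 := by
        rw [ht', Ne, conj_eq_one_iff]
        exact fun e => hpb.ne_one (by rw [← Subgroup.orderOf_coe, e, orderOf_one])
      have e1 : (t * t') ^ orderOf t' = t ^ orderOf t' := by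
        rw [hc.mul_pow, pow_orderOf_eq_one, mul_one]
      have e2 : (t * t') ^ orderOf t = t' ^ orderOf t := by
        rw [hc.mul_pow, pow_orderOf_eq_one, one_mul]
      have n1 : t ^ orderOf t' ≠ 1 := fun e => ht1 (orderOf_eq_one_iff.1
        (Nat.eq_one_of_dvd_coprimes hco dvd_rfl (orderOf_dvd_of_pow_eq_one e)))
      have n2 : t' ^ orderOf t ≠ 1 := fun e => ht'1 (orderOf_eq_one_iff.1
        (Nat.eq_one_of_dvd_coprimes hco (orderOf_dvd_of_pow_eq_one e) dvd_rfl))
      have hN1 : t * t' ∈ N := mmem (hT.le a.2) ((hT.cj g).le ht'F)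
      have hne' : t * t' ≠ 1 := fun e => n1 (by rw [← e1, e, one_pow])
      have h1 : stabilizer G α ⊓ stabilizer G (t ^ orderOf t' • α) ≤
          stabilizer G ((t * t') • α) := by
        refine stabilizer_le_of_le hH hep (hneα _ hN1 hne')
          (hneα _ (pmem (hT.le a.2) _) n1) fun k hk => ?_
        refine (hfix k hk.1 _ (pmem (hT.le a.2) _)).2 ?_
        rw [← e1]
        exact (Commute.pow_right ((hfix k hk.1 _ hN1).1 hk.2) _)
      have hh1 : h • (t * t') • α = (t * t') • α := h1 ⟨hh, (hfix h hh _ (pmem (hT.le a.2) _)).2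
        ((hfact T hT ⟨h₀, hh₀, hh₀T⟩ _ (pmem a.2 _) n1 h hh).2 hhT)⟩
      have hh2 : h * t' ^ orderOf t = t' ^ orderOf t * h := by
        rw [← e2]
        exact Commute.pow_right ((hfix h hh _ hN1).1 hh1) _
      exact (hfact _ (hT.cj g) (hmoved g) _ (pmem ht'F _) n2 h hh).1 hh2
    -- hence the normalizer of a factor is trivial
    have hNT : ∀ h ∈ stabilizer G α, cj h T = T → h = 1 := by
      intro h hh hhT
      have hcomm : ∀ g, cj g T ≤ Subgroup.centralizer ({h} : Set G) := by
        intro g y hy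
        rw [mem_cent]
        by_cases hy1 : y = 1
        · simp [hy1]
        exact (hfact _ (hT.cj g) (hmoved g) y hy hy1 h hh).2 (hall h hh hhT g)
      have hNle : N ≤ Subgroup.centralizer ({h} : Set G) := by
        rw [← hT.sup_others]
        refine sup_le ?_ (iSup₂_le fun g _ => hcomm g)
        simpa [cj_one] using hcomm 1
      refine eq_of_smul_eq_smul (α := Ω) fun x => ?_
      obtain ⟨⟨n, hn⟩, hnx⟩ := exists_smul_eq N α x
      have hnx' : n • α = x := hnx
      rw [one_smul, ← hnx']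
      exact (hfix h hh n hn).2 (mem_cent.1 (hNle hn))
    -- the stabilizer is generated by h₀
    obtain ⟨t, htT, ht1⟩ : ∃ t ∈ T, t ≠ 1 := by
      by_contra hc
      push Not at hc
      exact hT.ne_bot ((Subgroup.eq_bot_iff_forall _).2 hc)
    have htα := hneα t (hT.le htT) ht1
    have hgen : stabilizer G α ≤ Subgroup.zpowers h₀ := by
      rcases eq_or_eq_of_le hH hep htα (Subgroup.zpowers h₀)
          (fun k hk => by
            rw [hNT k hk.1 ((hfact T hT ⟨h₀, hh₀, hh₀T⟩ t htT ht1 k hk.1).1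
              ((hfix k hk.1 t (hT.le htT)).1 hk.2))]
            exact one_mem _)
          (Subgroup.zpowers_le.2 hh₀) with h' | h'
      · refine absurd ?_ hh₀T
        exact (hfact T hT ⟨h₀, hh₀, hh₀T⟩ t htT ht1 h₀ hh₀).1
          ((hfix h₀ hh₀ t (hT.le htT)).1 (h' (Subgroup.mem_zpowers h₀)))
      · exact h'
    have hind : ∀ j, 1 ≤ j → j ≤ orderOf h₀ →
        ∃ c ∈ others T, (t * h₀) ^ j = t * c * h₀ ^ j := by
      intro j hj
      induction j, hj using Nat.le_induction with
      | base => exact fun _ => ⟨1, one_mem _, by simp⟩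
      | succ j hj ih =>
        intro hjk
        obtain ⟨c, hc, e⟩ := ih (by omega)
        refine ⟨c * (h₀ ^ j * t * (h₀ ^ j)⁻¹), mmem hc (cj_le_others ?_ (conj_mem_cj htT)), ?_⟩
        · intro e'
          have := orderOf_dvd_of_pow_eq_one (hNT _ (pmem hh₀ j) e')
          have := Nat.le_of_dvd (by omega) this
          omega
        · rw [pow_succ, e, pow_succ]; simp [mul_assoc]
    obtain ⟨c, hc, e⟩ := hind (orderOf h₀) (orderOf_pos h₀) le_rfl
    rw [pow_orderOf_eq_one, mul_one] at e
    have hd1 : t * c ≠ 1 := fun e' => ht1 (Subgroup.mem_bot.1 (hT.inf_others ▸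
      (⟨htT, by rw [eq_inv_of_mul_eq_one_left e']; exact imem hc⟩ : t ∈ T ⊓ others T)))
    have hdN : t * c ∈ N := mmem (hT.le htT) (hT.others_le hc)
    have hth : h₀ * (t * c) = (t * c) * h₀ := by
      have h1 : (t * h₀) * (t * c) = (t * c) * (t * h₀) := by
        rw [← e]; exact Commute.self_pow _ _
      have h2 : (t * c) * t = t * (t * c) := by
        rw [mul_assoc, ← (hT.commute htT hc).eq]
      apply mul_left_cancel (a := t)
      calc t * (h₀ * (t * c)) = (t * c) * (t * h₀) := by rw [← mul_assoc, h1]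
        _ = t * (t * c * h₀) := by rw [← mul_assoc, h2]; simp [mul_assoc]
    apply not_le_stabilizer hH (hneα _ hdN hd1)
    intro g hg
    have hg' := Subgroup.zpowers_le (G := G).2
      (mem_stabilizer_iff.2 ((hfix h₀ hh₀ _ hdN).2 hth)) (hgen hg)
    exact hg'
  · -- N not regular
    set M : Subgroup G := N ⊓ stabilizer G α with hM
    have hMH : M ≤ stabilizer G α := inf_le_right
    have hMn : stabilizer G α ≤ Subgroup.normalizer (M : Set G) := fun g hg =>
      mem_normalizer_of_conj_mem fun w hw =>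
        ⟨hNn.conj_mem w hw.1 g, mmem (mmem hg hw.2) (imem hg)⟩
    obtain ⟨t₁, ht₁, ht₁H⟩ : ∃ t ∈ T, t ∉ stabilizer G α := by
      by_contra hc
      push Not at hc
      have hle : ∀ g, cj g T ≤ stabilizer G α := by
        intro g
        obtain ⟨h, hh, e⟩ := hcjH g
        rw [e]
        intro y hy
        have := mmem (mmem hh (hc _ (mem_cj.1 hy))) (imem hh)
        simpa [mul_assoc] using this
      have hNle : N ≤ stabilizer G α := by
        rw [← hT.sup_others]; exact sup_le hc (iSup₂_le fun g _ => hle g)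
      obtain ⟨x, hx⟩ := exists_ne α
      obtain ⟨⟨n, hn⟩, hnx⟩ := exists_smul_eq N α x
      exact hx (hnx.symm.trans (mem_stabilizer_iff.1 (hNle hn)))
    -- transitivity
    have hz : ∀ h ∈ stabilizer G α, ∀ t ∈ T, t ∉ stabilizer G α → ∃ m ∈ M,
        (h * t * h⁻¹)⁻¹ * (m * t * m⁻¹) ∈ M := by
      intro h hh t ht htH
      have htx : t • α ≠ α := fun e => htH (mem_stabilizer_iff.2 e)
      obtain ⟨m, hm, hmx⟩ := exists_smul_eq_of_normal hH hep htx M hMH hMn hM0 hh
      rw [smul_smul_conj (hMH hm), smul_smul_conj hh] at hmx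
      refine ⟨m, hm, ?_, inv_mul_mem_stabilizer hmx⟩
      exact mmem (imem (hNn.conj_mem t (hT.le ht) h))
        (hNn.conj_mem t (hT.le ht) m)
    -- no factor meets M
    let D : Subgroup G := ⨆ g : G, cj g T ⊓ M
    have hDM : D ≤ M := iSup_le fun g => inf_le_right
    have hD0 : D = ⊥ := by
      by_contra hD0
      have hDn : stabilizer G α ≤ Subgroup.normalizer (D : Set G) := by
        intro g hg
        refine mem_normalizer_of_conj_mem fun w hw => ?_
        suffices D ≤ D.comap (MulAut.conj g).toMonoidHom from this hw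
        refine iSup_le fun k y hy => ?_
        refine (le_iSup (fun g => cj g T ⊓ M) (g * k)) ⟨?_, ?_⟩
        · rw [← cj_cj]; exact conj_mem_cj hy.1
        · exact (Subgroup.mem_normalizer_iff.1 (hMn hg) y).1 hy.2
      have hDeq : Subgroup.normalizer (D : Set G) = stabilizer G α := by
        by_contra hne
        have hDN : D.Normal :=
          Subgroup.normalizer_eq_top_iff.1 (hco.2 _ (lt_of_le_of_ne hDn (Ne.symm hne)))
        refine hD0 ((Subgroup.eq_bot_iff_forall _).2 fun k hk =>
          eq_of_smul_eq_smul (α := Ω) fun x => ?_)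
        obtain ⟨c, rfl⟩ := exists_smul_eq G α x
        have := (hMH (hDM (hDN.conj_mem k hk c⁻¹)))
        rw [mem_stabilizer_iff, inv_inv, mul_smul, mul_smul, inv_smul_eq_iff] at this
        rw [one_smul, this]
      obtain ⟨m, hm, hzM⟩ := hz h₀ hh₀ t₁ ht₁ ht₁H
      set y := m * t₁ * m⁻¹ with hy
      set c := (h₀ * t₁ * h₀⁻¹)⁻¹ with hcdef
      have hyT : y ∈ T := hT.conj_mem m hm.1 _ ht₁
      have hcO : c ∈ others T := cj_le_others hh₀T (imem (conj_mem_cj ht₁))
      have hyD : y ∈ Subgroup.normalizer (D : Set G) := by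
        refine mem_normalizer_of_conj_mem fun w hw => ?_
        suffices D ≤ D.comap (MulAut.conj y).toMonoidHom from this hw
        refine iSup_le fun g w hw => ?_
        refine (le_iSup (fun g => cj g T ⊓ M) g) ?_
        show y * w * y⁻¹ ∈ cj g T ⊓ M
        by_cases hgT : cj g T = T
        · have hwT : w ∈ T := hgT ▸ hw.1
          have hmem : y * w * y⁻¹ ∈ T := mmem (mmem hyT hwT) (imem hyT)
          refine ⟨hgT.symm ▸ hmem, ?_⟩
          have e : (c * y) * w * (c * y)⁻¹ = y * w * y⁻¹ := by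
            have := (hT.commute hmem hcO).eq
            calc (c * y) * w * (c * y)⁻¹ = c * (y * w * y⁻¹) * c⁻¹ := by simp [mul_assoc]
              _ = _ := by rw [← this, mul_inv_cancel_right]
          rw [← e]
          exact mmem (mmem hzM hw.2) (imem hzM)
        · have := (hT.commute hyT (cj_le_others hgT hw.1)).eq
          rw [this, mul_inv_cancel_right]
          exact hw
      rw [hDeq] at hyD
      have hcH : c ∈ stabilizer G α := by
        have := mmem hzM.2 (imem hyD)
        rwa [mul_inv_cancel_right] at this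
      apply ht₁H
      have := mmem (mmem (imem hh₀) (imem hcH)) hh₀
      rw [hcdef, inv_inv] at this
      simpa [mul_assoc] using this
    have hTM : ∀ g, cj g T ⊓ M = ⊥ := fun g =>
      le_bot_iff.1 (hD0 ▸ le_iSup (fun g => cj g T ⊓ M) g)
    have hTM1 : ∀ y ∈ T, y ∈ M → y = 1 := fun y hy hyM => by
      have := hTM 1
      rw [cj_one] at this
      exact Subgroup.mem_bot.1 (this ▸ (⟨hy, hyM⟩ : y ∈ T ⊓ M))
    have hTα : T ⊓ stabilizer G α = ⊥ := by
      refine (Subgroup.eq_bot_iff_forall _).2 fun y hy => hTM1 y hy.1 ⟨hT.le hy.1, hy.2⟩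
    have hpair : ∀ h ∈ stabilizer G α, cj h T ≠ T → ∀ t ∈ T, ∃ c ∈ cj h T, t * c ∈ M := by
      intro h hh hhT t ht
      by_cases ht1 : t = 1
      · exact ⟨1, one_mem _, by simp [ht1]⟩
      obtain ⟨m, hm, hzM⟩ := hz h hh t ht
        (fun hc => ht1 (Subgroup.mem_bot.1 (hTα ▸ (⟨ht, hc⟩ : t ∈ T ⊓ stabilizer G α))))
      have hc' : m⁻¹ * (h * t * h⁻¹)⁻¹ * m ∈ cj h T := by
        have := (hT.cj h).conj_mem m⁻¹ (imem hm.1) _ (imem (conj_mem_cj ht (g := h)))
        simpa using this
      refine ⟨_, hc', ?_⟩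
      rw [(hT.commute ht (cj_le_others hhT hc')).eq]
      have := mmem (mmem (imem hm) hzM) hm
      simpa [mul_assoc] using this
    have hk2 : ∀ g, cj g T ≠ T → cj g T = cj h₀ T := by
      intro g hgT
      by_contra hne
      obtain ⟨h, hh, e⟩ := hcjH g
      rw [e] at hgT hne
      refine hT.nonab ⟨⟨fun a b => Subtype.ext ?_⟩⟩
      obtain ⟨c, hc, hac⟩ := hpair h₀ hh₀ hh₀T a a.2
      obtain ⟨d, hd, hbd⟩ := hpair h hh hgT b b.2
      have hcd : Commute c d := (hT.cj h₀).commute hc (by
        refine cj_le_others (g := h * h₀⁻¹) (fun e' => hne ?_) ?_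
        · rw [cj_cj, inv_mul_cancel_right] at e'; exact e'
        · rw [cj_cj, inv_mul_cancel_right]; exact hd)
      have hac' : Commute (a : G) c := hT.commute a.2 (cj_le_others hh₀T hc)
      have had : Commute (a : G) d := hT.commute a.2 (cj_le_others hgT hd)
      have hbc : Commute (b : G) c := hT.commute b.2 (cj_le_others hh₀T hc)
      have hbd' : Commute (b : G) d := hT.commute b.2 (cj_le_others hgT hd)
      have key : ((a : G) * c) * ((b : G) * d) * ((a : G) * c)⁻¹ * ((b : G) * d)⁻¹ =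
          (a : G) * b * (a : G)⁻¹ * (b : G)⁻¹ := by
        calc ((a : G) * c) * ((b : G) * d) * ((a : G) * c)⁻¹ * ((b : G) * d)⁻¹
            = (a : G) * (c * b) * (d * c⁻¹) * (a : G)⁻¹ * d⁻¹ * (b : G)⁻¹ := by simp [mul_assoc]
          _ = (a : G) * b * d * (a : G)⁻¹ * d⁻¹ * (b : G)⁻¹ := by
            rw [← hbc.eq, ← hcd.inv_left.eq]; simp [mul_assoc]
          _ = _ := by
            rw [mul_assoc _ d (a : G)⁻¹, ← had.inv_left.eq]; simp [mul_assoc]
      have hmem := mmem (mmem (mmem hac hbd) (imem hac)) (imem hbd)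
      rw [key] at hmem
      have := hTM1 _ (mmem (mmem (mmem a.2 b.2) (imem a.2)) (imem b.2)) hmem
      exact commutatorElement_eq_one_iff_mul_comm.1 (by rw [commutatorElement_def]; exact this)
    refine false_of_configuration hH hep α T M hT.simple hT.nonab hTα hMH hMn ?_ ?_ ?_
    · intro m hm
      obtain ⟨s, hs, c, hc, rfl⟩ := hT.exists_mul hm.1
      exact ⟨s, hs, c, fun t ht => hT.commute ht hc, rfl⟩
    · intro s hs
      obtain ⟨c, hc, hsc⟩ := hpair h₀ hh₀ hh₀T s hs
      exact ⟨c, fun t ht => hT.commute ht (cj_le_others hh₀T hc), hsc⟩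
    · intro h hh t ht j hfix
      rw [smul_smul_conj hh] at hfix ⊢
      rw [← conj_pow]
      have hz' := inv_mul_mem_stabilizer hfix
      have hcomm : Commute t (h * t * h⁻¹) := by
        by_cases hhT : cj h T = T
        · have hu : h * t * h⁻¹ ∈ T := hhT ▸ conj_mem_cj ht
          have := Subgroup.mem_bot.1 (hTα ▸ (Subgroup.mem_inf.2 ⟨mmem (imem ht) hu, hz'⟩ :
            t⁻¹ * (h * t * h⁻¹) ∈ T ⊓ stabilizer G α))
          rw [inv_mul_eq_one] at this
          rw [← this]
        · exact hT.commute ht (cj_le_others hhT (conj_mem_cj ht))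
      have := pmem hz' j
      rw [hcomm.inv_left.mul_pow, inv_pow] at this
      rw [mem_stabilizer_iff, mul_smul, inv_smul_eq_iff] at this
      exact this

end Main

end CfsgLib.ExtPrim
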