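import Cfsg.Agent.ExtPrim.MinNormal
import Cfsg.Agent.S0035
import Cfsg.Agent.ExtPrim.Socle
import Cfsg.Agent.Solvable.Basics

/-!
A group of automorphisms of a group of exponent two in which every non-trivial normal subgroup has the same
orbits and every vector stabiliser is maximal is almost simple, once it has no abelian normal subgroup.

The proof only compares stabilisers: a vector with a non-trivial stabiliser in one simple factor has a stabiliser
in the socle that is a product of self-normalising subgroups of the factors, and a suitable sum of two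
translates of such a vector contradicts this.
-/

set_option autoImplicit false
set_option linter.style.haveILetI false
set_option linter.unusedSectionVars false

namespace CfsgLib.ExtPrim.AffineTwo

open CfsgLib.ExtPrim

/-- A non-abelian simple group has no Frobenius complement. -/
theorem not_frobenius {T : Type*} [Group T] [Finite T] [IsSimpleGroup T] (R : Subgroup T) :
    ¬ Cfsg.IsFrobeniusComplement R := fun hR => by
  obtain ⟨N, -, hN, hc⟩ := Cfsg.Agent.S0035.result R hR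
  rcases hN.eq_bot_or_eq_top with e | e
  · exact hR.2.1 (Subgroup.isComplement'_bot_left.1 (e ▸ hc))
  · exact hR.1 (Subgroup.isComplement'_top_left.1 (e ▸ hc))

variable {H V : Type*} [Group H] [Finite H] [Group V] (ρ : H →* MulAut V)

/-- The stabiliser of a vector. -/
def stab (v : V) : Subgroup H := (MulAction.stabilizer (MulAut V) v).comap ρ

variable {ρ}

theorem mem_stab {v : V} {x : H} : x ∈ stab ρ v ↔ ρ x v = v := Iff.rfl

theorem mem_stab_apply {v : V} {h x : H} : x ∈ stab ρ (ρ h v) ↔ h⁻¹ * x * h ∈ stab ρ v := by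
  rw [mem_stab, mem_stab]
  simp only [map_mul, map_inv, MulAut.mul_apply]
  constructor
  · intro e
    rw [e, MulAut.inv_apply_self]
  · intro e
    have := congrArg (ρ h) e
    rwa [MulAut.apply_inv_self] at this

variable (ρ) in
/-- The hypotheses on the linear group. -/
structure Hyp : Prop where
  two : ∀ v : V, v * v = 1
  nofix : ∀ M : Subgroup H, M.Normal → M ≠ ⊥ → ∀ v : V, v ≠ 1 → ¬ M ≤ stab ρ v
  trans : ∀ M : Subgroup H, M.Normal → M ≠ ⊥ → ∀ v : V, v ≠ 1 → ∀ h : H, ∃ m ∈ M, ρ m v = ρ h v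
  max : ∀ v : V, v ≠ 1 → ∀ K : Subgroup H, stab ρ v ≤ K → K = stab ρ v ∨ K = ⊤
  nab : ∀ A : Subgroup H, A.Normal → IsMulCommutative A → A = ⊥
  even : ∀ T : Subgroup H, IsSimpleGroup T → ¬ IsMulCommutative T → Even (Nat.card T)

variable (hh : Hyp ρ)
include hh

theorem Hyp.comm (a b : V) : a * b = b * a := by
  have inv : ∀ x : V, x⁻¹ = x := fun x => inv_eq_of_mul_eq_one_left (hh.two x)
  rw [← inv (a * b), mul_inv_rev, inv, inv]

theorem Hyp.exists_fixed [Nontrivial V] {t : H} (ht : t * t = 1) : ∃ v : V, v ≠ 1 ∧ t ∈ stab ρ v := by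
  obtain ⟨u, hu⟩ := exists_ne (1 : V)
  by_cases e : ρ t u = u
  · exact ⟨u, hu, e⟩
  refine ⟨u * ρ t u, fun h => e ?_, ?_⟩
  · exact (eq_inv_of_mul_eq_one_right h).trans (inv_eq_of_mul_eq_one_left (hh.two u))
  · rw [mem_stab, map_mul, ← MulAut.mul_apply, ← map_mul, ht, map_one, MulAut.one_apply, hh.comm]

variable {M T : Subgroup H} [hM : M.Normal] (hT : IsFactor M T)
include hT

theorem Hyp.exists_split {v : V} (hv : v ≠ 1) (h : H) : ∃ m ∈ M, ∃ s ∈ stab ρ v, h = m * s := by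
  have hM1 : M ≠ ⊥ := fun e => hT.ne_bot (le_bot_iff.1 (e ▸ hT.le))
  obtain ⟨m, hm, e⟩ := hh.trans M hM hM1 v hv h
  refine ⟨m, hm, m⁻¹ * h, ?_, by group⟩
  rw [mem_stab, map_mul, map_inv, MulAut.mul_apply, ← e, MulAut.inv_apply_self]

omit hh in
theorem factor_unique {t t' c c' : H} (ht : t ∈ T) (ht' : t' ∈ T) (hc : c ∈ others T) (hc' : c' ∈ others T)
    (e : t * c = t' * c') : t = t' := by
  have h1 : t'⁻¹ * t ∈ T ⊓ others T := ⟨T.mul_mem (T.inv_mem ht') ht, by
    have : t'⁻¹ * t = c' * c⁻¹ := by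
      rw [inv_mul_eq_iff_eq_mul, ← mul_assoc, ← e, mul_inv_cancel_right]
    rw [this]
    exact (others T).mul_mem hc' ((others T).inv_mem hc)⟩
  rw [hT.inf_others, Subgroup.mem_bot, inv_mul_eq_one] at h1
  exact h1.symm

/-- A factor containing no involution outside a subgroup lies in it. -/
theorem Hyp.exists_involution {R : Subgroup H} (hR : ¬ T ≤ R) :
    ∃ g ∈ T, g * g = 1 ∧ g ∉ R := by
  haveI := hT.simple
  haveI : Fact (Nat.Prime 2) := ⟨Nat.prime_two⟩
  by_contra hn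
  push Not at hn
  obtain ⟨t, ht⟩ := exists_prime_orderOf_dvd_card' 2 (even_iff_two_dvd.1 (hh.even T hT.simple hT.nonab))
  set N := Subgroup.closure {x : T | x * x = 1} with hN
  have hNn : N.Normal := ⟨fun x hx y => by
    rw [hN] at hx ⊢
    induction hx using Subgroup.closure_induction with
    | mem z hz => exact Subgroup.subset_closure (by
        show y * z * y⁻¹ * (y * z * y⁻¹) = 1
        rw [show y * z * y⁻¹ * (y * z * y⁻¹) = y * (z * z) * y⁻¹ by group, show z * z = 1 from hz]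
        group)
    | one => simp
    | mul a b _ _ ha hb =>
      rw [show y * (a * b) * y⁻¹ = y * a * y⁻¹ * (y * b * y⁻¹) by group]
      exact mul_mem ha hb
    | inv a _ ha =>
      rw [show y * a⁻¹ * y⁻¹ = (y * a * y⁻¹)⁻¹ by group]
      exact inv_mem ha⟩
  rcases hNn.eq_bot_or_eq_top with e | e
  · have h1 : t ∈ N := Subgroup.subset_closure (by
      show t * t = 1
      rw [← sq, ← ht, pow_orderOf_eq_one])
    rw [e, Subgroup.mem_bot] at h1
    rw [h1, orderOf_one] at ht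
    exact absurd ht (by norm_num)
  · refine hR fun x hx => ?_
    have h1 : N ≤ R.subgroupOf T := (Subgroup.closure_le _).2 fun z hz =>
      hn z z.2 (congrArg Subtype.val hz)
    exact h1 (e ▸ Subgroup.mem_top (⟨x, hx⟩ : T))

theorem Hyp.not_le_stab {v : V} (hv : v ≠ 1) : ¬ T ≤ stab ρ v := by
  intro hle
  have hM1 : M ≠ ⊥ := fun e => hT.ne_bot (le_bot_iff.1 (e ▸ hT.le))
  refine hh.nofix M hM hM1 v hv ?_
  rw [← hT.sup_others]
  refine sup_le hle (iSup₂_le fun k _ y hy => ?_)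
  obtain ⟨m, hm, s, hs, rfl⟩ := hh.exists_split hT hv k
  rw [← cj_cj, (hT.cj s).cj_eq_of_mem hm, mem_cj] at hy
  have := mul_mem (mul_mem hs (hle hy)) (inv_mem hs)
  simpa [mul_assoc] using this

/-- An invariant part of the factor above the stabiliser collapses. -/
theorem Hyp.collapse {v : V} (hv : v ≠ 1) (P : Subgroup H) (hPT : P ≤ T) (hne : ¬ T ≤ P)
    (hproj : ∀ t ∈ T, ∀ c ∈ others T, t * c ∈ stab ρ v → t ∈ P)
    (hinv : ∀ s ∈ stab ρ v, cj s T = T → ∀ p ∈ P, s * p * s⁻¹ ∈ P) : P ≤ stab ρ v := by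
  classical
  let L : Subgroup H :=
    { carrier := {m | m ∈ M ∧ ∀ s ∈ stab ρ v, ∀ t ∈ T, ∀ c ∈ others T, s * m * s⁻¹ = t * c → t ∈ P}
      one_mem' := ⟨one_mem _, fun s _ t ht c hc e => by
        rw [factor_unique hT ht T.one_mem hc (others T).one_mem (by rw [← e]; group)]
        exact one_mem _⟩
      mul_mem' := by
        rintro a b ⟨ha, ha'⟩ ⟨hb, hb'⟩
        refine ⟨mul_mem ha hb, fun s hs t ht c hc e => ?_⟩
        obtain ⟨t1, ht1, c1, hc1, e1⟩ := hT.exists_mul (hM.conj_mem a ha s)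
        obtain ⟨t2, ht2, c2, hc2, e2⟩ := hT.exists_mul (hM.conj_mem b hb s)
        have e3 : t * c = t1 * t2 * (c1 * c2) := by
          rw [← e, show s * (a * b) * s⁻¹ = s * a * s⁻¹ * (s * b * s⁻¹) by group, e1, e2,
            mul_assoc t1 c1, ← mul_assoc c1 t2, ← (hT.commute ht2 hc1).eq]
          simp [mul_assoc]
        rw [factor_unique hT ht (mul_mem ht1 ht2) hc (mul_mem hc1 hc2) e3]
        exact mul_mem (ha' s hs t1 ht1 c1 hc1 e1) (hb' s hs t2 ht2 c2 hc2 e2)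
      inv_mem' := by
        rintro a ⟨ha, ha'⟩
        refine ⟨inv_mem ha, fun s hs t ht c hc e => ?_⟩
        have e' : s * a * s⁻¹ = t⁻¹ * c⁻¹ := by
          rw [(hT.commute (T.inv_mem ht) ((others T).inv_mem hc)).eq, ← mul_inv_rev, ← e]
          group
        exact inv_mem_iff.1 (ha' s hs _ (T.inv_mem ht) _ ((others T).inv_mem hc) e') }
  have hLs : ∀ s ∈ stab ρ v, ∀ m ∈ L, s * m * s⁻¹ ∈ L := fun s hs m hm =>
    ⟨hM.conj_mem m hm.1 s, fun s' hs' t ht c hc e => hm.2 (s' * s) (mul_mem hs' hs) t ht c hc (by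
      rw [← e]; group)⟩
  have hPL : P ≤ L := fun p hp => ⟨hT.le (hPT hp), fun s hs t ht c hc e => by
    by_cases hst : cj s T = T
    · have h1 := hinv s hs hst p hp
      rw [factor_unique hT ht (hPT h1) hc (others T).one_mem (by rw [← e, mul_one])]
      exact h1
    · have h1 : s * p * s⁻¹ ∈ others T := cj_le_others hst (conj_mem_cj (hPT hp))
      rw [factor_unique hT ht T.one_mem hc h1 (by rw [← e, one_mul])]
      exact one_mem _⟩
  let K : Subgroup H :=
    { carrier := {x | ∃ m ∈ L, ∃ s ∈ stab ρ v, x = m * s}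
      one_mem' := ⟨1, one_mem _, 1, one_mem _, (mul_one 1).symm⟩
      mul_mem' := by
        rintro _ _ ⟨a, ha, s, hs, rfl⟩ ⟨b, hb, s', hs', rfl⟩
        exact ⟨a * (s * b * s⁻¹), mul_mem ha (hLs s hs b hb), s * s', mul_mem hs hs', by group⟩
      inv_mem' := by
        rintro _ ⟨a, ha, s, hs, rfl⟩
        refine ⟨s⁻¹ * a⁻¹ * s, ?_, s⁻¹, inv_mem hs, by group⟩
        simpa using hLs s⁻¹ (inv_mem hs) a⁻¹ (inv_mem ha) }
  rcases hh.max v hv K (fun s hs => ⟨1, one_mem _, s, hs, (one_mul s).symm⟩) with e | e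
  · intro p hp
    rw [← e]
    exact ⟨p, hPL hp, 1, one_mem _, (mul_one p).symm⟩
  · refine absurd (fun t ht => ?_) hne
    obtain ⟨m, hm, s, hs, e'⟩ : t ∈ K := e ▸ Subgroup.mem_top t
    obtain ⟨t1, ht1, c1, hc1, e1⟩ := hT.exists_mul hm.1
    have h1 : t1 ∈ P := hm.2 1 (one_mem _) t1 ht1 c1 hc1 (by rw [← e1]; group)
    have hst : (t1⁻¹ * t) * c1⁻¹ ∈ stab ρ v := by
      rw [show (t1⁻¹ * t) * c1⁻¹ = s from ?_]
      · exact hs
      rw [(hT.commute (mul_mem (inv_mem ht1) ht) (inv_mem hc1)).eq, e', e1]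
      group
    have h2 := hproj _ (mul_mem (inv_mem ht1) ht) _ (inv_mem hc1) hst
    simpa using mul_mem h1 h2

omit hh in
theorem conj_factor {s x : H} (hs : cj s T = T) (hx : x ∈ T) : s * x * s⁻¹ ∈ T :=
  hs.le (conj_mem_cj hx)

omit hh in
theorem conj_others {s : H} (hs : cj s T = T) {c : H} (hc : c ∈ others T) : s * c * s⁻¹ ∈ others T := by
  have key : others T ≤ (others T).comap (MulAut.conj s).toMonoidHom := iSup₂_le fun k hk y hy => by
    refine cj_le_others (g := s * k) (fun e => hk ?_) (by rw [← cj_cj]; exact conj_mem_cj hy)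
    have e2 : cj s⁻¹ T = T := by
      conv_lhs => rw [← hs]
      rw [cj_cj, inv_mul_cancel, cj_one]
    rw [← cj_cj] at e
    rw [← cj_one (cj k T), ← inv_mul_cancel s, ← cj_cj, e, e2]
  exact key hc

/-- The projection of the stabiliser lies in the stabiliser. -/
theorem Hyp.proj {v : V} (hv : v ≠ 1) (hR : T ⊓ stab ρ v ≠ ⊥) {t c : H} (ht : t ∈ T) (hc : c ∈ others T)
    (htc : t * c ∈ stab ρ v) : t ∈ stab ρ v := by
  let P : Subgroup H :=
    { carrier := {t | t ∈ T ∧ ∃ c ∈ others T, t * c ∈ stab ρ v}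
      one_mem' := ⟨one_mem _, 1, one_mem _, by rw [mul_one]; exact one_mem _⟩
      mul_mem' := by
        rintro t1 t2 ⟨ht1, c1, hc1, h1⟩ ⟨ht2, c2, hc2, h2⟩
        refine ⟨mul_mem ht1 ht2, c1 * c2, mul_mem hc1 hc2, ?_⟩
        have := mul_mem h1 h2
        rwa [show t1 * c1 * (t2 * c2) = t1 * t2 * (c1 * c2) by
          rw [mul_assoc t1 c1, ← mul_assoc c1 t2, ← (hT.commute ht2 hc1).eq]; simp [mul_assoc]] at this
      inv_mem' := by
        rintro t ⟨ht, c, hc, h⟩
        refine ⟨inv_mem ht, c⁻¹, inv_mem hc, ?_⟩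
        have := inv_mem h
        rwa [mul_inv_rev, ← (hT.commute (inv_mem ht) (inv_mem hc)).eq] at this }
  have hne : ¬ T ≤ P := fun hTP => by
    haveI := hT.simple
    have hn : ((stab ρ v).subgroupOf T).Normal := ⟨fun x hx y => by
      obtain ⟨-, d, hd, hyd⟩ := hTP y.2
      rw [Subgroup.mem_subgroupOf] at hx ⊢
      have := mul_mem (mul_mem hyd hx) (inv_mem hyd)
      rw [show (y : H) * d * x * ((y : H) * d)⁻¹ = y * x * (y : H)⁻¹ by
        rw [mul_assoc (y : H) d x, ← (hT.commute x.2 hd).eq, mul_inv_rev]; simp [mul_assoc]] at this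
      simpa using this⟩
    rcases hn.eq_bot_or_eq_top with e | e
    · refine hR ((Subgroup.eq_bot_iff_forall _).2 fun x hx => ?_)
      have : (⟨x, hx.1⟩ : T) ∈ (stab ρ v).subgroupOf T := hx.2
      rw [e, Subgroup.mem_bot] at this
      exact congrArg Subtype.val this
    · exact hh.not_le_stab hT hv (Subgroup.subgroupOf_eq_top.1 e)
  exact hh.collapse hT hv P (fun x hx => hx.1) hne (fun t ht c hc h => ⟨ht, c, hc, h⟩)
    (fun s hs hst p ⟨hp, d, hd, hpd⟩ => ⟨conj_factor hT hst hp, s * d * s⁻¹, conj_others hT hst hd, by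
      rw [show s * p * s⁻¹ * (s * d * s⁻¹) = s * (p * d) * s⁻¹ by group]
      exact mul_mem (mul_mem hs hpd) (inv_mem hs)⟩) ⟨ht, c, hc, htc⟩

/-- The stabiliser in a factor is self-normalising there. -/
theorem Hyp.self_normalizing {v : V} (hv : v ≠ 1) (hR : T ⊓ stab ρ v ≠ ⊥) {n : H} (hn : n ∈ T)
    (hnn : n ∈ Subgroup.normalizer ((T ⊓ stab ρ v : Subgroup H) : Set H)) : n ∈ stab ρ v := by
  set R := T ⊓ stab ρ v with hRdef
  refine hh.collapse hT hv (T ⊓ Subgroup.normalizer (R : Set H)) inf_le_left (fun hTN => ?_)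
    (fun t ht c hc h => ⟨ht, Subgroup.le_normalizer ⟨ht, hh.proj hT hv hR ht hc h⟩⟩)
    (fun s hs hst p hp => ⟨conj_factor hT hst hp.1, ?_⟩) ⟨hn, hnn⟩
  · haveI := hT.simple
    have hn' : ((stab ρ v).subgroupOf T).Normal := ⟨fun x hx y => by
      rw [Subgroup.mem_subgroupOf] at hx ⊢
      exact ((Subgroup.mem_normalizer_iff.1 (hTN y.2).2 x).1 ⟨x.2, hx⟩).2⟩
    rcases hn'.eq_bot_or_eq_top with e | e
    · refine hR ((Subgroup.eq_bot_iff_forall _).2 fun x hx => ?_)
      have : (⟨x, hx.1⟩ : T) ∈ (stab ρ v).subgroupOf T := hx.2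
      rw [e, Subgroup.mem_bot] at this
      exact congrArg Subtype.val this
    · exact hh.not_le_stab hT hv (Subgroup.subgroupOf_eq_top.1 e)
  · have hsT : ∀ x, s * x * s⁻¹ ∈ T ↔ x ∈ T := fun x =>
      ⟨fun hx => by
        rw [← hst, mem_cj] at hx
        simpa [mul_assoc] using hx, fun hx => conj_factor hT hst hx⟩
    have hsN : s ∈ Subgroup.normalizer (R : Set H) := Subgroup.mem_normalizer_iff.2 fun x => by
      rw [hRdef, Subgroup.mem_inf, Subgroup.mem_inf, hsT x, Subgroup.mul_mem_cancel_right _ (inv_mem hs),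
        Subgroup.mul_mem_cancel_left _ hs]
    show s * p * s⁻¹ ∈ Subgroup.normalizer (R : Set H)
    exact mul_mem (mul_mem hsN (Subgroup.mem_inf.1 hp).2) (inv_mem hsN)

/-- All factors meet the stabiliser of a vector in subgroups of the same order. -/
theorem Hyp.card_factor {v : V} (hv : v ≠ 1) (k : H) :
    Nat.card ↥(cj k T ⊓ stab ρ v) = Nat.card ↥(T ⊓ stab ρ v) := by
  obtain ⟨m, hm, s, hs, rfl⟩ := hh.exists_split hT hv k
  rw [← cj_cj, (hT.cj s).cj_eq_of_mem hm]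
  have e : cj s T ⊓ stab ρ v = cj s (T ⊓ stab ρ v) := by
    ext x
    rw [Subgroup.mem_inf, mem_cj, mem_cj, Subgroup.mem_inf, Subgroup.mul_mem_cancel_right _ hs,
      Subgroup.mul_mem_cancel_left _ (inv_mem hs)]
  rw [e, card_cj]

/-- There is only one factor. -/
theorem Hyp.others_eq_bot [Finite V] [Nontrivial V] : others T = ⊥ := by
  classical
  by_contra ho
  obtain ⟨k, hk⟩ : ∃ k, cj k T ≠ T := by
    by_contra h
    push Not at h
    exact ho (le_bot_iff.1 (iSup₂_le fun g hg => absurd (h g) hg))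
  set T2 := cj k T with hT2def
  have hT2 : IsFactor M T2 := hT.cj k
  have hT2o : T2 ≤ others T := cj_le_others hk
  have hcm : ∀ a ∈ T, ∀ b ∈ T2, a * b = b * a := fun a ha b hb => (hT.commute ha (hT2o hb)).eq
  have hcard : ∀ v : V, v ≠ 1 → Nat.card ↥(T2 ⊓ stab ρ v) = Nat.card ↥(T ⊓ stab ρ v) := fun v hv =>
    hh.card_factor hT hv k
  have hbot : ∀ v : V, v ≠ 1 → (T2 ⊓ stab ρ v = ⊥ ↔ T ⊓ stab ρ v = ⊥) := fun v hv => by
    rw [← Subgroup.card_eq_one, ← Subgroup.card_eq_one, hcard v hv]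
  haveI : Fintype V := Fintype.ofFinite V
  obtain ⟨g₀, hg₀T, hg₀2, hg₀⟩ := hh.exists_involution hT (R := ⊥) fun e => hT.ne_bot (le_bot_iff.1 e)
  obtain ⟨v₀, hv₀, hv₀g⟩ := hh.exists_fixed hg₀2
  obtain ⟨v, hvmem, hvmax⟩ := Finset.exists_max_image
    (Finset.univ.filter fun v : V => v ≠ 1 ∧ T ⊓ stab ρ v ≠ ⊥) (fun v => Nat.card ↥(T ⊓ stab ρ v))
    ⟨v₀, Finset.mem_filter.2 ⟨Finset.mem_univ _, hv₀, fun e => hg₀
      (e ▸ (⟨hg₀T, hv₀g⟩ : g₀ ∈ T ⊓ stab ρ v₀))⟩⟩
  obtain ⟨-, hv, hR⟩ := Finset.mem_filter.1 hvmem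
  obtain ⟨g, hgT, hg2, hgR⟩ := hh.exists_involution hT (R := stab ρ v) (hh.not_le_stab hT hv)
  have hR2 : T2 ⊓ stab ρ v ≠ ⊥ := fun e => hR ((hbot v hv).1 e)
  obtain ⟨h, hhT, hhR, r, hr, hr', hr1⟩ : ∃ h ∈ T2, h ∉ stab ρ v ∧ ∃ r ∈ T2 ⊓ stab ρ v,
      h⁻¹ * r * h ∈ stab ρ v ∧ r ≠ 1 := by
    haveI := hT2.simple
    by_contra hn
    push Not at hn
    refine not_frobenius ((stab ρ v).subgroupOf T2) ⟨fun e => hR2 ?_, fun e => ?_, fun y hy => ?_⟩
    · refine (Subgroup.eq_bot_iff_forall _).2 fun x hx => ?_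
      have : (⟨x, hx.1⟩ : T2) ∈ (stab ρ v).subgroupOf T2 := hx.2
      rw [e, Subgroup.mem_bot] at this
      exact congrArg Subtype.val this
    · exact hh.not_le_stab hT2 hv (Subgroup.subgroupOf_eq_top.1 e)
    · refine (Subgroup.eq_bot_iff_forall _).2 fun x hx => Subtype.ext ?_
      obtain ⟨hx1, z, hz, rfl⟩ := hx
      refine hn y y.2 (fun hy' => hy hy') _ ⟨SetLike.coe_mem _, hx1⟩ ?_
      simpa [mul_assoc, Subgroup.mem_subgroupOf] using hz
  set w := v * ρ (g * h) v with hwdef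
  have hw : w ≠ 1 := fun e => hgR (hh.proj hT hv hR hgT (hT2o hhT)
    ((eq_inv_of_mul_eq_one_right e).trans (inv_eq_of_mul_eq_one_left (hh.two v))))
  have hgh : ∀ a : H, (g * h)⁻¹ * a * (g * h) = h⁻¹ * (g⁻¹ * a * g) * h := fun a => by group
  have hRw2 : T2 ⊓ stab ρ w ≠ ⊥ := fun e => hr1 (Subgroup.mem_bot.1 (e ▸ (⟨hr.1, by
    have h2 : r ∈ stab ρ (ρ (g * h) v) := by
      rw [mem_stab_apply, hgh, show g⁻¹ * r * g = r by rw [mul_assoc, ← hcm g hgT r hr.1]; simp]
      exact hr'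
    show r ∈ stab ρ w
    rw [mem_stab, hwdef, map_mul, mem_stab.1 hr.2, mem_stab.1 h2]⟩ : r ∈ T2 ⊓ stab ρ w)))
  have hRw : T ⊓ stab ρ w ≠ ⊥ := fun e => hRw2 ((hbot w hw).2 e)
  have hiff : ∀ x, x ∈ T ⊓ stab ρ w ↔ x ∈ T ⊓ stab ρ v ∧ g⁻¹ * x * g ∈ stab ρ v := by
    intro x
    constructor
    · intro hx
      obtain ⟨hxT, hxw⟩ := Subgroup.mem_inf.1 hx
      set y := ρ x v * v with hydef
      set z := ρ x (ρ g v) * ρ g v with hzdef
      have hxh : ∀ u : V, ρ h (ρ x u) = ρ x (ρ h u) := fun u => by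
        rw [← MulAut.mul_apply, ← map_mul, ← hcm x hxT h hhT, map_mul, MulAut.mul_apply]
      have hgh' : ρ (g * h) v = ρ h (ρ g v) := by rw [hcm g hgT h hhT, map_mul, MulAut.mul_apply]
      have hyz : y * ρ h z = 1 := by
        have e := mem_stab.1 hxw
        rw [hwdef, map_mul, hgh'] at e
        rw [hydef, hzdef, map_mul, hxh]
        calc ρ x v * v * (ρ x (ρ h (ρ g v)) * ρ h (ρ g v))
            = (ρ x v * ρ x (ρ h (ρ g v))) * (v * ρ h (ρ g v)) := by
              rw [mul_assoc, ← mul_assoc v, hh.comm v, mul_assoc (ρ x (ρ h (ρ g v))), ← mul_assoc]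
          _ = 1 := by rw [e, hh.two]
      have hfixR : ∀ a ∈ T2 ⊓ stab ρ v, ∀ b ∈ T, a ∈ stab ρ (ρ b v) := fun a ha b hb => by
        rw [mem_stab_apply, mul_assoc, ← hcm b hb a ha.1, inv_mul_cancel_left]
        exact ha.2
      have hfy : ∀ a ∈ T2 ⊓ stab ρ v, a ∈ stab ρ y := fun a ha => by
        rw [mem_stab, hydef, map_mul, mem_stab.1 (hfixR a ha x hxT), mem_stab.1 ha.2]
      have hfz : ∀ a ∈ T2 ⊓ stab ρ v, a ∈ stab ρ z := fun a ha => by
        rw [mem_stab, hzdef, map_mul, ← MulAut.mul_apply V (ρ x) (ρ g), ← map_mul ρ,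
          mem_stab.1 (hfixR a ha _ (mul_mem hxT hgT)), mem_stab.1 (hfixR a ha g hgT)]
      have hy : y = 1 := by
        by_contra hy
        have hyh : y = ρ h z := (eq_inv_of_mul_eq_one_left hyz).trans (inv_eq_of_mul_eq_one_left (hh.two _))
        have hle : T2 ⊓ stab ρ v ≤ T2 ⊓ stab ρ y := fun a ha => ⟨ha.1, hfy a ha⟩
        have hRy2 : T2 ⊓ stab ρ y ≠ ⊥ := fun e => hR2 (le_bot_iff.1 (e ▸ hle))
        have heq : T2 ⊓ stab ρ v = T2 ⊓ stab ρ y := Subgroup.eq_of_le_of_card_ge hle (by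
          rw [hcard y hy, hcard v hv]
          exact hvmax y (Finset.mem_filter.2 ⟨Finset.mem_univ _, hy, fun e => hRy2 ((hbot y hy).2 e)⟩))
        refine hhR (hh.self_normalizing hT2 hv hR2 hhT
          (mem_normalizer_of_conj_mem fun a ha => ?_))
        rw [heq]
        refine Subgroup.mem_inf.2 ⟨mul_mem (mul_mem hhT (Subgroup.mem_inf.1 ha).1) (inv_mem hhT), ?_⟩
        rw [hyh, mem_stab_apply, show h⁻¹ * (h * a * h⁻¹) * h = a by group]
        exact hfz a ha
      have hz : z = 1 := by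
        rw [hy, one_mul] at hyz
        exact (map_eq_one_iff (ρ h) (ρ h).injective).1 hyz
      have hsame : ∀ a b : V, a * b = 1 → a = b := fun a b e =>
        (eq_inv_of_mul_eq_one_left e).trans (inv_eq_of_mul_eq_one_left (hh.two b))
      exact ⟨⟨hxT, hsame _ _ hy⟩, mem_stab_apply.1 (hsame _ _ hz)⟩
    · rintro ⟨hx, hgx⟩
      obtain ⟨hxT, hxv⟩ := Subgroup.mem_inf.1 hx
      refine Subgroup.mem_inf.2 ⟨hxT, ?_⟩
      have h2 : x ∈ stab ρ (ρ (g * h) v) := by
        rw [mem_stab_apply, hgh, mul_assoc h⁻¹,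
          hcm _ (mul_mem (mul_mem (inv_mem hgT) hxT) hgT) h hhT, inv_mul_cancel_left]
        exact hgx
      rw [mem_stab, hwdef, map_mul, mem_stab.1 hxv, mem_stab.1 h2]
  have hginv : g⁻¹ = g := inv_eq_of_mul_eq_one_left hg2
  have hgN : g ∈ stab ρ w := hh.self_normalizing hT hw hRw hgT (mem_normalizer_of_conj_mem fun x hx => by
    obtain ⟨hx', hgx⟩ := (hiff x).1 hx
    obtain ⟨hxT, hxv⟩ := Subgroup.mem_inf.1 hx'
    refine (hiff _).2 ⟨Subgroup.mem_inf.2 ⟨mul_mem (mul_mem hgT hxT) (inv_mem hgT), ?_⟩, ?_⟩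
    · rw [hginv] at hgx ⊢
      exact hgx
    · rw [show g⁻¹ * (g * x * g⁻¹) * g = x by group]
      exact hxv)
  exact hgR ((hiff g).1 ⟨hgT, hgN⟩).1.2

omit hT hM in
/-- The group is almost simple. -/
theorem Hyp.almost_simple [Nontrivial H] [Finite V] [Nontrivial V] :
    ∃ T : Subgroup H, T.Normal ∧ IsSimpleGroup T ∧ ¬ IsMulCommutative T ∧
      Subgroup.centralizer (T : Set H) = ⊥ := by
  obtain ⟨N, hN, hN1, -, hmin⟩ := CfsgLib.Solvable.exists_minimal_normal_le
    (N := (⊤ : Subgroup H)) top_ne_bot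
  haveI := hN
  obtain ⟨T, hT⟩ := exists_isFactor N hN1 hmin fun hc => hN1 (hh.nab N hN hc)
  have hNT : N = T := by rw [← hT.sup_others, hh.others_eq_bot hT, sup_bot_eq]
  subst hNT
  refine ⟨N, hN, hT.simple, hT.nonab, ?_⟩
  by_contra hC
  obtain ⟨t, htN, ht2, ht1⟩ := hh.exists_involution hT (R := ⊥) fun e => hN1 (le_bot_iff.1 e)
  obtain ⟨v, hv, htv⟩ := hh.exists_fixed ht2
  let K : Subgroup H := ⨅ u : H, stab ρ (ρ u v)
  haveI : K.Normal := ⟨fun x hx y => Subgroup.mem_iInf.2 fun u => by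
    rw [mem_stab_apply]
    have := mem_stab_apply.1 (Subgroup.mem_iInf.1 hx (y⁻¹ * u))
    simpa [mul_assoc] using this⟩
  have htK : t ∈ K := Subgroup.mem_iInf.2 fun u => by
    obtain ⟨c, hc, e⟩ := hh.trans _ inferInstance hC v hv u
    rw [← e, mem_stab_apply, mul_assoc, Subgroup.mem_centralizer_iff.1 hc t htN, inv_mul_cancel_left]
    exact htv
  refine hh.nofix K inferInstance (fun e => ht1 (e ▸ htK)) v hv fun x hx => ?_
  simpa using Subgroup.mem_iInf.1 hx 1

end CfsgLib.ExtPrim.AffineTwo
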