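import Cfsg.Agent.ExtPrim.Socle
import Mathlib.GroupTheory.GroupAction.ConjAct
import Mathlib.GroupTheory.GroupAction.Quotient
import Mathlib.GroupTheory.GroupAction.MultipleTransitivity

/-! Primitive groups with few classes of derangements. -/

set_option autoImplicit false

namespace CfsgLib.ExtPrim

open MulAction

variable {G Ω : Type*} [Group G] [MulAction G Ω]

/-- Jordan: a proper subgroup of a finite group has a conjugate-avoiding element. -/
theorem exists_avoiding_conjugates {T : Type*} [Group T] [Finite T] (K : Subgroup T) (hK : K ≠ ⊤) :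
    ∃ x : T, ∀ s : T, s⁻¹ * x * s ∉ K := by
  classical
  by_contra h
  push Not at h
  have : Fintype T := Fintype.ofFinite T
  let f : (T ⧸ K) × {k : K // k ≠ 1} → {x : T // x ≠ 1} := fun p =>
    ⟨p.1.out * (p.2.1 : T) * p.1.out⁻¹, fun e => p.2.2 (Subtype.ext (by
      rwa [conj_eq_one_iff] at e))⟩
  have hf : Function.Surjective f := by
    rintro ⟨x, hx⟩
    obtain ⟨s, hs⟩ := h x
    obtain ⟨k, hk⟩ := QuotientGroup.mk_out_eq_mul K s
    refine ⟨(QuotientGroup.mk s, ⟨⟨((k : T))⁻¹ * (s⁻¹ * x * s) * k,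
      mmem (mmem (imem k.2) hs) k.2⟩, fun e => hx ?_⟩), Subtype.ext ?_⟩
    · have := congrArg Subtype.val e
      simp only [OneMemClass.coe_one] at this
      have := congrArg (fun z => s * (k : T) * z * (k : T)⁻¹ * s⁻¹) this
      simpa [mul_assoc] using this
    · simp only [f, hk]
      simp [mul_assoc]
  have hle := Nat.card_le_card_of_surjective f hf
  rw [Nat.card_prod] at hle
  have h1 : Nat.card {x : T // x ≠ 1} + 1 = Nat.card T := by
    have h0 : Nat.card {x : T // x = 1} = 1 := Nat.card_unique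
    have e0 : Nat.card {x : T // ¬ x = 1} = Nat.card {x : T // x ≠ 1} := rfl
    have := Nat.card_congr (Equiv.sumCompl fun x : T => x = 1)
    rw [Nat.card_sum, h0] at this
    omega
  have h2 : Nat.card {k : K // k ≠ 1} + 1 = Nat.card K := by
    have h0 : Nat.card {k : K // k = 1} = 1 := Nat.card_unique
    have e0 : Nat.card {k : K // ¬ k = 1} = Nat.card {k : K // k ≠ 1} := rfl
    have := Nat.card_congr (Equiv.sumCompl fun k : K => k = 1)
    rw [Nat.card_sum, h0] at this
    omega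
  have h3 : Nat.card (T ⧸ K) * Nat.card K = Nat.card T := K.index_mul_card
  have h4 : 2 ≤ Nat.card (T ⧸ K) := by
    have : 0 < Nat.card (T ⧸ K) := Nat.card_pos
    rcases Nat.lt_or_ge (Nat.card (T ⧸ K)) 2 with h4 | h4
    · exact absurd (Subgroup.index_eq_one.1 (by rw [Subgroup.index_eq_card]; omega)) hK
    · exact h4
  nlinarith

theorem three_le_card_classes [Finite G] (P : G → Prop) {a b c : G} (ha : P a) (hb : P b)
    (hc : P c) (hab : ¬ IsConj a b) (hac : ¬ IsConj a c) (hbc : ¬ IsConj b c) :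
    3 ≤ Nat.card {x : ConjClasses G // ∃ g : G, ConjClasses.mk g = x ∧ P g} := by
  classical
  have : Finite (ConjClasses G) := Finite.of_surjective _ ConjClasses.mk_surjective
  let f : Fin 3 → {x : ConjClasses G // ∃ g : G, ConjClasses.mk g = x ∧ P g} :=
    ![⟨_, a, rfl, ha⟩, ⟨_, b, rfl, hb⟩, ⟨_, c, rfl, hc⟩]
  have hf : Function.Injective f := by
    intro i j hij
    have e := congrArg Subtype.val hij
    fin_cases i <;> fin_cases j <;> try rfl
    · exact (hab (ConjClasses.mk_eq_mk_iff_isConj.1 e)).elim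
    · exact (hac (ConjClasses.mk_eq_mk_iff_isConj.1 e)).elim
    · exact (hab (ConjClasses.mk_eq_mk_iff_isConj.1 e).symm).elim
    · exact (hbc (ConjClasses.mk_eq_mk_iff_isConj.1 e)).elim
    · exact (hac (ConjClasses.mk_eq_mk_iff_isConj.1 e).symm).elim
    · exact (hbc (ConjClasses.mk_eq_mk_iff_isConj.1 e).symm).elim
  simpa using Nat.card_le_card_of_injective f hf

theorem orderOf_eq_of_isConj {a b : G} (h : IsConj a b) : orderOf a = orderOf b := by
  obtain ⟨k, hk⟩ := isConj_iff.1 h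
  rw [← hk, show k * a * k⁻¹ = MulAut.conj k a from rfl, MulEquiv.orderOf_eq]

section Main

variable [Finite G] [FaithfulSMul G Ω] [Finite Ω] [IsPreprimitive G Ω] [Nontrivial Ω]

theorem isPretransitive_of_normal (N : Subgroup G) (hN : N.Normal) (hne : N ≠ ⊥) :
    IsPretransitive N Ω := by
  refine IsPreprimitive.isQuasiPreprimitive.isPretransitive_of_normal fun h => hne ?_
  refine (Subgroup.eq_bot_iff_forall _).2 fun a ha => eq_of_smul_eq_smul (α := Ω) fun x => ?_
  have hx : x ∈ fixedPoints N Ω := by rw [h]; trivial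
  rw [one_smul]
  exact hx ⟨a, ha⟩

theorem derangement_of_centralizes {C : Subgroup G} [IsPretransitive C Ω] {n : G}
    (hn : ∀ c ∈ C, c * n = n * c) (hn1 : n ≠ 1) (x : Ω) : n • x ≠ x := fun hx =>
  hn1 (eq_of_smul_eq_smul (α := Ω) fun y => by
    obtain ⟨⟨c, hc⟩, hcy⟩ := exists_smul_eq C x y
    have hcy' : c • x = y := hcy
    rw [one_smul, ← hcy', ← mul_smul, ← hn c hc, mul_smul, hx])

/-- With non-abelian socle and not almost simple there are three classes of derangements. -/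
theorem three_classes_of_nonabelian
    (hab : ∀ A : Subgroup G, A.Normal → IsMulCommutative A → A = ⊥)
    (hnas : ¬ ∃ T : Subgroup G, T.Normal ∧ IsSimpleGroup T ∧ ¬ IsMulCommutative T ∧
      Subgroup.centralizer (T : Set G) = ⊥) :
    3 ≤ Nat.card {c : ConjClasses G // ∃ g : G, ConjClasses.mk g = c ∧ ∀ ω : Ω, g • ω ≠ ω} := by
  classical
  obtain ⟨α₀, β₀, hαβ⟩ := (inferInstance : Nontrivial Ω).exists_pair_ne
  obtain ⟨g₀, hg₀⟩ := exists_smul_eq G α₀ β₀
  have hGnt : (⊤ : Subgroup G) ≠ ⊥ := fun h => hαβ (by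
    have : g₀ ∈ (⊥ : Subgroup G) := h ▸ Subgroup.mem_top g₀
    rw [← hg₀, Subgroup.mem_bot.1 this, one_smul])
  obtain ⟨N, hNn, hN0, hmin⟩ : ∃ N : Subgroup G, N.Normal ∧ N ≠ ⊥ ∧
      ∀ K : Subgroup G, K.Normal → K ≤ N → K = ⊥ ∨ K = N := by
    have : Fintype (Subgroup G) := Fintype.ofFinite _
    obtain ⟨N, hN, hNmin⟩ := Finset.exists_min_image
      (Finset.univ.filter fun N : Subgroup G => N.Normal ∧ N ≠ ⊥)
      (fun N : Subgroup G => Nat.card N)
      ⟨⊤, by
        simp only [Finset.mem_filter, Finset.mem_univ, true_and]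
        exact ⟨inferInstance, hGnt⟩⟩
    simp only [Finset.mem_filter, Finset.mem_univ, true_and] at hN hNmin
    refine ⟨N, hN.1, hN.2, fun K hK hKN => ?_⟩
    by_cases hK0 : K = ⊥
    · exact Or.inl hK0
    · exact Or.inr (Subgroup.eq_of_le_of_card_ge hKN (hNmin K ⟨hK, hK0⟩))
  obtain ⟨T, hT⟩ := exists_isFactor N hN0 hmin fun h => hN0 (hab N hNn h)
  have := hT.simple
  obtain ⟨a, b, hpa, hpb, hne⟩ := exists_two_primes hT.nonab
  have ha1 : (a : G) ≠ 1 := fun e => hpa.ne_one (by rw [← Subgroup.orderOf_coe, e, orderOf_one])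
  have hb1 : (b : G) ≠ 1 := fun e => hpb.ne_one (by rw [← Subgroup.orderOf_coe, e, orderOf_one])
  have hnab : ¬ IsConj (a : G) b := fun h => hne (by
    have := orderOf_eq_of_isConj h
    rwa [Subgroup.orderOf_coe, Subgroup.orderOf_coe] at this)
  have hNt := isPretransitive_of_normal (Ω := Ω) N hNn hN0
  set C : Subgroup G := Subgroup.centralizer (N : Set G) with hC
  by_cases hC0 : C = ⊥
  swap
  · -- two minimal normal subgroups
    have hCn : C.Normal := inferInstance
    have hCt := isPretransitive_of_normal (Ω := Ω) C hCn hC0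
    obtain ⟨c, hc, hc1⟩ : ∃ c ∈ C, c ≠ 1 := by
      by_contra h
      push Not at h
      exact hC0 ((Subgroup.eq_bot_iff_forall _).2 h)
    have hNder : ∀ n ∈ N, n ≠ 1 → ∀ x : Ω, n • x ≠ x := fun n hn hn1 =>
      derangement_of_centralizes (C := C)
        (fun c hc => (Subgroup.mem_centralizer_iff.1 hc n hn).symm) hn1
    have hCder : ∀ x : Ω, c • x ≠ x :=
      derangement_of_centralizes (C := N) (fun n hn => Subgroup.mem_centralizer_iff.1 hc n hn) hc1
    have hdisj : ∀ n ∈ N, ¬ IsConj n c := by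
      intro n hn h
      obtain ⟨k, hk⟩ := isConj_iff.1 h
      have hcN : c ∈ N := hk ▸ hNn.conj_mem n hn k
      have hz : c ∈ N ⊓ C := Subgroup.mem_inf.2 ⟨hcN, hc⟩
      have h0 : N ⊓ C = ⊥ := by
        refine (hmin _ inferInstance inf_le_left).resolve_right fun e => ?_
        refine hN0 (hab N hNn ⟨⟨fun u v => Subtype.ext ?_⟩⟩)
        exact Subgroup.mem_centralizer_iff.1 ((inf_eq_left.1 e) v.2) u u.2
      rw [h0, Subgroup.mem_bot] at hz
      exact hc1 hz
    exact three_le_card_classes _ (hNder _ (hT.le a.2) ha1) (hNder _ (hT.le b.2) hb1) hCder hnab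
      (hdisj _ (hT.le a.2)) (hdisj _ (hT.le b.2))
  -- there are at least two factors
  obtain ⟨g, hg⟩ : ∃ g, cj g T ≠ T := by
    by_contra h
    push Not at h
    have hTN : T = N := by
      have e : others T = ⊥ := le_bot_iff.1 (iSup₂_le fun g hg => absurd (h g) hg)
      rw [← hT.sup_others, e, sup_bot_eq]
    subst hTN
    exact hnas ⟨T, hNn, hT.simple, hT.nonab, hC0⟩
  have hsup : ∀ y ∈ T, ∀ y' ∈ cj g T, y ≠ 1 → y' ≠ 1 → ∀ k, y * y' ∉ cj k T := by
    intro y hy y' hy' hy1 hy'1 k hk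
    have hy'O : y' ∈ others T := cj_le_others hg hy'
    by_cases hkT : cj k T = T
    · rw [hkT] at hk
      have : y' ∈ T ⊓ others T :=
        Subgroup.mem_inf.2 ⟨by simpa using mmem (imem hy) hk, hy'O⟩
      rw [hT.inf_others, Subgroup.mem_bot] at this
      exact hy'1 this
    · have : y ∈ T ⊓ others T :=
        Subgroup.mem_inf.2 ⟨hy, by simpa using mmem (cj_le_others hkT hk) (imem hy'O)⟩
      rw [hT.inf_others, Subgroup.mem_bot] at this
      exact hy1 this
  by_cases hall : ∀ t ∈ T, t ≠ 1 → ∀ x : Ω, t • x ≠ x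
  · -- all elements of a factor are derangements
    set b' : G := g * b * g⁻¹ with hb'
    have hb'F : b' ∈ cj g T := conj_mem_cj b.2
    have hb'1 : b' ≠ 1 := by rw [hb', Ne, conj_eq_one_iff]; exact hb1
    have hc := hT.commute a.2 (cj_le_others hg hb'F)
    have hob : orderOf b' = orderOf b := by
      rw [hb', show g * (b : G) * g⁻¹ = MulAut.conj g (b : G) from rfl, MulEquiv.orderOf_eq,
        Subgroup.orderOf_coe]
    have hab' : ∀ x : Ω, ((a : G) * b') • x ≠ x := by
      intro x hx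
      have hpow : ((a : G) * b') ^ orderOf b = (a : G) ^ orderOf b := by
        rw [hc.mul_pow, ← hob, pow_orderOf_eq_one, mul_one]
      refine hall ((a : G) ^ orderOf b) (pmem a.2 _) (fun e => hne ?_) x ?_
      · have hd := orderOf_dvd_of_pow_eq_one e
        rw [Subgroup.orderOf_coe] at hd
        exact (Nat.prime_dvd_prime_iff_eq hpa hpb).1 hd
      · rw [← hpow]
        exact mem_stabilizer_iff.1 (pmem (mem_stabilizer_iff.2 hx) _)
    have hno : ∀ y ∈ T, ¬ IsConj y ((a : G) * b') := by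
      intro y hy h
      obtain ⟨k, hk⟩ := isConj_iff.1 h
      exact hsup _ a.2 _ hb'F ha1 hb'1 k (hk ▸ conj_mem_cj hy)
    exact three_le_card_classes _ (hall _ a.2 ha1) (hall _ b.2 hb1) hab' hnab
      (hno _ a.2) (hno _ b.2)
  push Not at hall
  obtain ⟨t₀, ht₀, ht₀1, α, ht₀α⟩ := hall
  -- components of stabilised elements are stabilised
  have hproj : ∀ x : Ω, ∀ s ∈ T, ∀ c ∈ others T, s * c ∈ stabilizer G x → s • x = x := by
    intro x s hs c hc hsc
    set M : Subgroup G := N ⊓ stabilizer G x with hM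
    let D : Subgroup G := ⨆ k : G, cj k T ⊓ M
    have hDM : D ≤ M := iSup_le fun k => inf_le_right
    have hDn : stabilizer G x ≤ Subgroup.normalizer (D : Set G) := by
      intro h hh
      refine mem_normalizer_of_conj_mem fun w hw => ?_
      suffices D ≤ D.comap (MulAut.conj h).toMonoidHom from this hw
      refine iSup_le fun k y hy => ?_
      refine (le_iSup (fun k => cj k T ⊓ M) (h * k)) (Subgroup.mem_inf.2 ⟨?_, ?_⟩)
      · rw [← cj_cj]; exact conj_mem_cj (Subgroup.mem_inf.1 hy).1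
      · exact Subgroup.mem_inf.2
          ⟨hNn.conj_mem y (Subgroup.mem_inf.1 (Subgroup.mem_inf.1 hy).2).1 h,
           mmem (mmem hh (Subgroup.mem_inf.1 (Subgroup.mem_inf.1 hy).2).2) (imem hh)⟩
    have hD0 : D ≠ ⊥ := by
      obtain ⟨⟨n, hn⟩, hnx⟩ := exists_smul_eq N α x
      have hnx' : n • α = x := hnx
      intro h0
      have hmem : n * t₀ * n⁻¹ ∈ cj 1 T ⊓ M := by
        refine Subgroup.mem_inf.2 ⟨?_, Subgroup.mem_inf.2 ⟨hNn.conj_mem t₀ (hT.le ht₀) n, ?_⟩⟩
        · rw [cj_one]; exact hT.conj_mem n hn _ ht₀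
        · rw [mem_stabilizer_iff, ← hnx', mul_smul, mul_smul, inv_smul_smul, ht₀α]
      have := (le_iSup (fun k => cj k T ⊓ M) 1) hmem
      rw [show (⨆ k, cj k T ⊓ M) = D from rfl, h0, Subgroup.mem_bot, conj_eq_one_iff] at this
      exact ht₀1 this
    have hDeq : Subgroup.normalizer (D : Set G) = stabilizer G x := by
      by_contra hne'
      have hco := IsPreprimitive.isCoatom_stabilizer_of_isPreprimitive (G := G) x
      have hDN : D.Normal :=
        Subgroup.normalizer_eq_top_iff.1 (hco.2 _ (lt_of_le_of_ne hDn (Ne.symm hne')))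
      refine hD0 ((Subgroup.eq_bot_iff_forall _).2 fun k hk =>
        eq_of_smul_eq_smul (α := Ω) fun y => ?_)
      obtain ⟨d, rfl⟩ := exists_smul_eq G x y
      have := (Subgroup.mem_inf.1 (hDM (hDN.conj_mem k hk d⁻¹))).2
      rw [mem_stabilizer_iff, inv_inv, mul_smul, mul_smul, inv_smul_eq_iff] at this
      rw [one_smul, this]
    have hscM : s * c ∈ M := Subgroup.mem_inf.2 ⟨mmem (hT.le hs) (hT.others_le hc), hsc⟩
    have hsD : s ∈ Subgroup.normalizer (D : Set G) := by
      refine mem_normalizer_of_conj_mem fun w hw => ?_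
      suffices D ≤ D.comap (MulAut.conj s).toMonoidHom from this hw
      refine iSup_le fun k w hw => ?_
      refine (le_iSup (fun k => cj k T ⊓ M) k) ?_
      show s * w * s⁻¹ ∈ cj k T ⊓ M
      by_cases hkT : cj k T = T
      · have hwT : w ∈ T := hkT ▸ (Subgroup.mem_inf.1 hw).1
        have hmem : s * w * s⁻¹ ∈ T := mmem (mmem hs hwT) (imem hs)
        refine Subgroup.mem_inf.2 ⟨hkT.symm ▸ hmem, ?_⟩
        have e : (s * c) * w * (s * c)⁻¹ = s * w * s⁻¹ := by
          calc (s * c) * w * (s * c)⁻¹ = s * (c * w) * c⁻¹ * s⁻¹ := by simp [mul_assoc]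
            _ = _ := by rw [← (hT.commute hwT hc).eq]; simp [mul_assoc]
        rw [← e]
        exact mmem (mmem hscM (Subgroup.mem_inf.1 hw).2) (imem hscM)
      · have := (hT.commute hs (cj_le_others hkT (Subgroup.mem_inf.1 hw).1)).eq
        rw [this, mul_inv_cancel_right]
        exact hw
    rw [hDeq] at hsD
    exact mem_stabilizer_iff.1 hsD
  -- a derangement in the factor
  obtain ⟨x₁, hx₁⟩ : ∃ x ∈ T, ∀ ω : Ω, x • ω ≠ ω := by
    have hK : (stabilizer G α).subgroupOf T ≠ ⊤ := by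
      intro h
      rw [Subgroup.subgroupOf_eq_top] at h
      obtain ⟨β, hβ⟩ := exists_ne α
      obtain ⟨⟨n, hn⟩, hnβ⟩ := exists_smul_eq N α β
      have hfixall : ∀ y ∈ T, ∀ ω : Ω, y • ω = ω := by
        intro y hy ω
        obtain ⟨⟨m, hm⟩, hmω⟩ := exists_smul_eq N α ω
        have hmω' : m • α = ω := hmω
        have := mem_stabilizer_iff.1 (h (by
          have := hT.conj_mem m⁻¹ (imem hm) y hy; simpa using this : m⁻¹ * y * m ∈ T))
        rw [mul_smul, mul_smul, inv_smul_eq_iff, hmω'] at this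
        exact this
      exact ha1 (eq_of_smul_eq_smul (α := Ω) fun ω => by rw [hfixall _ a.2, one_smul])
    obtain ⟨x, hx⟩ := exists_avoiding_conjugates _ hK
    refine ⟨x, x.2, fun ω hω => ?_⟩
    obtain ⟨⟨n, hn⟩, hnω⟩ := exists_smul_eq N α ω
    have hnω' : n • α = ω := hnω
    obtain ⟨s, hs, c, hc, rfl⟩ := hT.exists_mul hn
    refine hx ⟨s, hs⟩ ?_
    rw [Subgroup.mem_subgroupOf]
    simp only [Subgroup.coe_mul, InvMemClass.coe_inv]
    have e : (s * c)⁻¹ * (x : G) * (s * c) = s⁻¹ * (x : G) * s := by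
      have hm : s⁻¹ * (x : G) * s ∈ T := mmem (mmem (imem hs) x.2) hs
      calc (s * c)⁻¹ * (x : G) * (s * c) = c⁻¹ * ((s⁻¹ * (x : G) * s) * c) := by simp [mul_assoc]
        _ = _ := by rw [(hT.commute hm hc).eq, inv_mul_cancel_left]
    rw [← e, mem_stabilizer_iff, mul_smul, mul_smul, hnω', hω, ← hnω', inv_smul_smul]
  obtain ⟨hx₁T, hx₁d⟩ := hx₁
  have hx₁1 : x₁ ≠ 1 := fun e => hx₁d α (by rw [e, one_smul])
  set x' : G := g * x₁ * g⁻¹ with hx'
  set m' : G := g * t₀ * g⁻¹ with hm'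
  have hx'F : x' ∈ cj g T := conj_mem_cj hx₁T
  have hm'F : m' ∈ cj g T := conj_mem_cj ht₀
  have hx'1 : x' ≠ 1 := by rw [hx', Ne, conj_eq_one_iff]; exact hx₁1
  have hm'1 : m' ≠ 1 := by rw [hm', Ne, conj_eq_one_iff]; exact ht₀1
  have hder : ∀ y ∈ cj g T, ∀ ω : Ω, (x₁ * y) • ω ≠ ω := fun y hy ω hω =>
    hx₁d ω (hproj ω x₁ hx₁T y (cj_le_others hg hy) (mem_stabilizer_iff.2 hω))
  have hx'der : ∀ k : G, ∀ ω : Ω, (k * x₁ * k⁻¹) • ω ≠ ω := fun k ω hω =>
    hx₁d (k⁻¹ • ω) (by
      rw [mul_smul, mul_smul] at hω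
      exact eq_inv_smul_iff.2 hω)
  refine three_le_card_classes _ hx₁d (hder x' hx'F) (hder m' hm'F) ?_ ?_ ?_
  · intro h
    obtain ⟨k, hk⟩ := isConj_iff.1 h
    exact hsup x₁ hx₁T x' hx'F hx₁1 hx'1 k (hk ▸ conj_mem_cj hx₁T)
  · intro h
    obtain ⟨k, hk⟩ := isConj_iff.1 h
    exact hsup x₁ hx₁T m' hm'F hx₁1 hm'1 k (hk ▸ conj_mem_cj hx₁T)
  · intro h
    obtain ⟨k, hk⟩ := isConj_iff.1 h
    set u := k * x₁ * k⁻¹ with hu
    set v := k * x' * k⁻¹ with hv
    have huF : u ∈ cj k T := conj_mem_cj hx₁T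
    have hvF : v ∈ cj (k * g) T := by rw [← cj_cj]; exact conj_mem_cj hx'F
    have huv : u * v = x₁ * m' := by rw [← hk, hu, hv]; simp [mul_assoc]
    have hF' := hT.cj g
    have hx₁O : x₁ ∈ others (cj g T) := cj_le_others (g := g⁻¹)
      (by rw [cj_cj, inv_mul_cancel, cj_one]; exact Ne.symm hg)
      (by rw [cj_cj, inv_mul_cancel, cj_one]; exact hx₁T)
    have hne12 : cj (k * g) T ≠ cj k T := by
      rw [← cj_cj]
      exact fun e => hg (Subgroup.map_injective (MulAut.conj k).injective e)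
    have hoth : ∀ z : G, ∀ F : G, cj F T ≠ cj g T → z ∈ cj F T → z ∈ others (cj g T) := by
      intro z F hF hz
      refine cj_le_others (g := F * g⁻¹) ?_ ?_
      · rw [cj_cj, inv_mul_cancel_right]; exact hF
      · rw [cj_cj, inv_mul_cancel_right]; exact hz
    have hm'der : ¬ ∀ ω : Ω, m' • ω ≠ ω := fun h => h (g • α) (by
      rw [hm', mul_smul, mul_smul, inv_smul_smul, ht₀α])
    apply hm'der
    -- uniqueness of the component in `cj g T`
    have huniq : ∀ p q : G, p ∈ cj g T → q ∈ others (cj g T) → p * q = m' * x₁ → p = m' := by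
      intro p q hp hq e
      have h1 : m'⁻¹ * p = x₁ * q⁻¹ := by
        have := congrArg (fun z => m'⁻¹ * z * q⁻¹) e
        simpa [mul_assoc] using this
      have : m'⁻¹ * p ∈ cj g T ⊓ others (cj g T) :=
        Subgroup.mem_inf.2 ⟨mmem (imem hm'F) hp, h1 ▸ mmem hx₁O (imem hq)⟩
      rw [hF'.inf_others, Subgroup.mem_bot, inv_mul_eq_one] at this
      exact this.symm
    have hmx : x₁ * m' = m' * x₁ := (hT.commute hx₁T (cj_le_others hg hm'F)).eq
    by_cases h1 : cj k T = cj g T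
    · have : u = m' := huniq u v (h1 ▸ huF) (hoth v _ (h1 ▸ hne12) hvF) (huv.trans hmx)
      rw [← this, hu]
      exact hx'der k
    by_cases h2 : cj (k * g) T = cj g T
    · have : v = m' := huniq v u (h2 ▸ hvF) (hoth u _ h1 huF)
        (((hF'.commute (h2 ▸ hvF) (hoth u _ h1 huF)).eq.trans huv).trans hmx)
      rw [← this, hv, hx']
      intro ω
      have := hx'der (k * g) ω
      simpa [mul_assoc] using this
    · exfalso
      refine hm'1 (huniq 1 (u * v) (one_mem _) (mmem (hoth u _ h1 huF) (hoth v _ h2 hvF))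
        ((one_mul _).trans (huv.trans hmx))).symm

end Main

/-- Orbit counting for a transitive action. -/
theorem sum_fixed [Fintype G] [Finite Ω] [Nonempty Ω] [IsPretransitive G Ω] :
    ∑ g : G, Nat.card (fixedBy Ω g) = Nat.card G := by
  classical
  have := Fintype.ofFinite Ω
  have : Fintype (Quotient (orbitRel G Ω)) := Fintype.ofFinite _
  have h := MulAction.sum_card_fixedBy_eq_card_orbits_mul_card_group G Ω
  simp only [← Nat.card_eq_fintype_card] at h
  have hs : Subsingleton (orbitRel.Quotient G Ω) :=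
    (pretransitive_iff_subsingleton_quotient G Ω).1 inferInstance
  have h1 : Nat.card (Quotient (orbitRel G Ω)) = 1 :=
    Nat.card_eq_one_iff_unique.2 ⟨hs, ⟨Quotient.mk'' (Classical.arbitrary Ω)⟩⟩
  rw [h1, one_mul] at h
  exact h

/-- If the derangements are few then the non-identity elements fix few points. -/
theorem fixed_le_one_of_derangements_le [Finite G] [Finite Ω] [Nonempty Ω] [IsPretransitive G Ω]
    (h : Nat.card {g : G // ∀ ω : Ω, g • ω ≠ ω} + 1 ≤ Nat.card Ω) {g : G} (hg : g ≠ 1) :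
    Nat.card (fixedBy Ω g) ≤ 1 := by
  classical
  by_contra hlt
  have : Fintype G := Fintype.ofFinite G
  have hs := sum_fixed (G := G) (Ω := Ω)
  have h1 : Nat.card (fixedBy Ω (1 : G)) = Nat.card Ω :=
    Nat.card_congr ((Equiv.setCongr (by ext; simp)).trans (Equiv.Set.univ Ω))
  rw [← Finset.add_sum_erase _ _ (Finset.mem_univ (1 : G)), h1] at hs
  set S := Finset.univ.erase (1 : G)
  set D : G → ℕ := fun x => if (∀ ω : Ω, x • ω ≠ ω) then 1 else 0 with hD
  have hle : ∀ x ∈ S, 1 ≤ Nat.card (fixedBy Ω x) + D x := by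
    intro x _
    by_cases hx : ∀ ω : Ω, x • ω ≠ ω
    · simp [hD, hx]
    · push Not at hx
      obtain ⟨ω, hω⟩ := hx
      have : Nonempty (fixedBy Ω x) := ⟨⟨ω, hω⟩⟩
      have := Nat.card_pos (α := fixedBy Ω x)
      omega
  have hlt' : S.card < ∑ x ∈ S, (Nat.card (fixedBy Ω x) + D x) := by
    rw [Finset.card_eq_sum_ones]
    exact Finset.sum_lt_sum hle ⟨g, Finset.mem_erase.2 ⟨hg, Finset.mem_univ _⟩, by omega⟩
  rw [Finset.sum_add_distrib] at hlt'
  have hDsum : ∑ x ∈ S, D x ≤ Nat.card {g : G // ∀ ω : Ω, g • ω ≠ ω} := by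
    rw [Nat.card_eq_fintype_card, Fintype.card_subtype, hD, ← Finset.sum_filter,
      ← Finset.card_eq_sum_ones]
    exact Finset.card_le_card (Finset.filter_subset_filter _ (Finset.subset_univ _))
  have hScard : S.card + 1 = Nat.card G := by
    rw [Finset.card_erase_add_one (Finset.mem_univ _), Finset.card_univ, Nat.card_eq_fintype_card]
  omega

theorem eq_of_two_fixed [Finite Ω] {g : G} (h : Nat.card (fixedBy Ω g) ≤ 1) {a b : Ω}
    (ha : g • a = a) (hb : g • b = b) : a = b := by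
  have := Finite.card_le_one_iff_subsingleton.1 h
  exact congrArg Subtype.val (Subsingleton.elim (⟨a, ha⟩ : fixedBy Ω g) ⟨b, hb⟩)

theorem card_fixed_le_one [Finite Ω]
    (h : ∀ g : G, g ≠ 1 → ∀ a b : Ω, a ≠ b → g • a = a → g • b ≠ b) {g : G} (hg : g ≠ 1) :
    Nat.card (fixedBy Ω g) ≤ 1 := by
  rw [Finite.card_le_one_iff_subsingleton]
  refine ⟨fun a b => Subtype.ext ?_⟩
  by_contra hne
  exact h g hg a b hne a.2 b.2

/-- Number of derangements when all non-identity elements fix at most one point. -/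
theorem card_derangements_of_fixed_le_one [Finite G] [Finite Ω] [Nonempty Ω] [IsPretransitive G Ω]
    (h : ∀ g : G, g ≠ 1 → Nat.card (fixedBy Ω g) ≤ 1) (hΩ : 2 ≤ Nat.card Ω) :
    Nat.card {g : G // ∀ ω : Ω, g • ω ≠ ω} + 1 = Nat.card Ω := by
  classical
  have : Fintype G := Fintype.ofFinite G
  have hs := sum_fixed (G := G) (Ω := Ω)
  have h1 : Nat.card (fixedBy Ω (1 : G)) = Nat.card Ω :=
    Nat.card_congr ((Equiv.setCongr (by ext; simp)).trans (Equiv.Set.univ Ω))
  rw [← Finset.add_sum_erase _ _ (Finset.mem_univ (1 : G)), h1] at hs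
  set S := Finset.univ.erase (1 : G)
  set D : G → ℕ := fun x => if (∀ ω : Ω, x • ω ≠ ω) then 1 else 0 with hD
  have heq : ∀ x ∈ S, Nat.card (fixedBy Ω x) + D x = 1 := by
    intro x hx
    have hx1 := (Finset.mem_erase.1 hx).1
    by_cases hd : ∀ ω : Ω, x • ω ≠ ω
    · have : IsEmpty (fixedBy Ω x) := ⟨fun y => hd y.1 y.2⟩
      simp [hD, hd]
    · have he : D x = 0 := if_neg hd
      push Not at hd
      obtain ⟨ω, hω⟩ := hd
      have : Nonempty (fixedBy Ω x) := ⟨⟨ω, hω⟩⟩
      have := Nat.card_pos (α := fixedBy Ω x)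
      have := h x hx1
      omega
  have h2 := Finset.sum_congr rfl heq
  rw [Finset.sum_add_distrib, ← Finset.card_eq_sum_ones] at h2
  have hScard : S.card + 1 = Nat.card G := by
    rw [Finset.card_erase_add_one (Finset.mem_univ _), Finset.card_univ, Nat.card_eq_fintype_card]
  have hDsum : ∑ x ∈ S, D x = Nat.card {g : G // ∀ ω : Ω, g • ω ≠ ω} := by
    rw [Nat.card_eq_fintype_card, Fintype.card_subtype, hD, ← Finset.sum_filter,
      ← Finset.card_eq_sum_ones]
    congr 1
    ext x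
    simp only [S, Finset.mem_filter, Finset.mem_erase, Finset.mem_univ, and_true, true_and]
    refine ⟨fun h => h.2, fun hd => ⟨fun e => hd (Classical.arbitrary Ω) (by rw [e, one_smul]), hd⟩⟩
  omega

section Affine

variable [FaithfulSMul G Ω] (A : Subgroup G) (hA : IsMulCommutative A) [IsPretransitive A Ω]

include hA in
theorem abelian_derangement {a : G} (ha : a ∈ A) (ha1 : a ≠ 1) (x : Ω) : a • x ≠ x :=
  fun hx => ha1 (eq_of_smul_eq_smul (α := Ω) fun y => by
    obtain ⟨⟨c, hc⟩, hcy⟩ := exists_smul_eq A x y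
    have hcy' : c • x = y := hcy
    have e : a * c = c * a := congrArg Subtype.val (hA.is_comm.comm ⟨a, ha⟩ ⟨c, hc⟩)
    rw [one_smul, ← hcy', ← mul_smul, e, mul_smul, hx])

include hA in
theorem abelian_inj {a b : G} (ha : a ∈ A) (hb : b ∈ A) {x : Ω} (h : a • x = b • x) : a = b := by
  by_contra hne
  refine abelian_derangement A hA (mmem (imem hb) ha) ?_ x ?_
  · rw [Ne, inv_mul_eq_one]; exact Ne.symm hne
  · rw [mul_smul, h, inv_smul_smul]

include hA in
theorem abelian_card [Finite G] (x : Ω) : Nat.card A = Nat.card Ω := by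
  refine Nat.card_congr (Equiv.ofBijective (fun a : A => (a : G) • x) ⟨?_, ?_⟩)
  · intro a b h; exact Subtype.ext (abelian_inj A hA a.2 b.2 h)
  · exact fun y => exists_smul_eq A x y

include hA in
/-- Conjugation in `A` is effected by the point stabilizer. -/
theorem exists_conj_stabilizer [A.Normal] (α : Ω) {a b : G} (ha : a ∈ A)
    (h : IsConj a b) : ∃ k ∈ stabilizer G α, k * a * k⁻¹ = b := by
  obtain ⟨g, hg⟩ := isConj_iff.1 h
  obtain ⟨⟨n, hn⟩, hng⟩ := exists_smul_eq A α (g • α)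
  refine ⟨n⁻¹ * g, inv_mul_mem_stabilizer (show g • α = n • α from hng.symm), ?_⟩
  rw [← hg]
  have hga : g * a * g⁻¹ ∈ A := (inferInstance : A.Normal).conj_mem a ha g
  have e : (g * a * g⁻¹) * n = n * (g * a * g⁻¹) :=
    congrArg Subtype.val (hA.is_comm.comm ⟨_, hga⟩ ⟨n, hn⟩)
  calc (n⁻¹ * g) * a * (n⁻¹ * g)⁻¹ = n⁻¹ * ((g * a * g⁻¹) * n) := by simp [mul_assoc]
    _ = g * a * g⁻¹ := by rw [e, inv_mul_cancel_left]

include hA in
/-- A one-class regular abelian normal subgroup gives a 2-transitive group. -/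
theorem two_transitive_of_conj [IsPretransitive G Ω] [A.Normal] (α : Ω)
    (h : ∀ a ∈ A, ∀ b ∈ A, a ≠ 1 → b ≠ 1 → IsConj a b) : IsMultiplyPretransitive G Ω 2 := by
  rw [is_two_pretransitive_iff]
  have key : ∀ x y : Ω, x ≠ α → y ≠ α → ∃ k ∈ stabilizer G α, k • x = y := by
    intro x y hx hy
    obtain ⟨⟨a, ha⟩, hax⟩ := exists_smul_eq A α x
    obtain ⟨⟨b, hb⟩, hby⟩ := exists_smul_eq A α y
    have hax' : a • α = x := hax
    have hby' : b • α = y := hby
    obtain ⟨k, hk, e⟩ := exists_conj_stabilizer A hA α ha (h a ha b hb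
      (fun e => hx (by rw [← hax', e, one_smul])) (fun e => hy (by rw [← hby', e, one_smul])))
    exact ⟨k, hk, by rw [← hax', ← hby', smul_smul_conj hk, e]⟩
  intro a b c d hab hcd
  obtain ⟨g₁, hg₁⟩ := exists_smul_eq G a α
  obtain ⟨g₂, hg₂⟩ := exists_smul_eq G c α
  obtain ⟨k, hk, hke⟩ := key (g₁ • b) (g₂ • d)
    (fun e => hab (MulAction.injective g₁ (hg₁.trans e.symm)))
    (fun e => hcd (MulAction.injective g₂ (hg₂.trans e.symm)))
  refine ⟨g₂⁻¹ * k * g₁, ?_, ?_⟩
  · rw [mul_smul, mul_smul, hg₁, mem_stabilizer_iff.1 hk, ← hg₂, inv_smul_smul]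
  · rw [mul_smul, mul_smul, hke, inv_smul_smul]

end Affine

end CfsgLib.ExtPrim
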