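import Mathlib.GroupTheory.GroupAction.Primitive
import Mathlib.GroupTheory.Index

/-! Manning's theorem: in an extremely primitive group every point stabilizer is faithful on each
of its orbits other than the fixed point. -/

set_option autoImplicit false

namespace CfsgLib.ExtPrim

open MulAction
open scoped Pointwise

variable {G Ω : Type*} [Group G] [MulAction G Ω]

/-- A normal subgroup of a point stabilizer is trivial or transitive on each suborbit. -/
theorem dichotomy {a b : Ω}
    (hep : IsPreprimitive (stabilizer G a) (orbit (stabilizer G a) b))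
    (K : Subgroup G) (hK : K ≤ stabilizer G a)
    (hn : stabilizer G a ≤ Subgroup.normalizer (K : Set G)) :
    (∀ k ∈ K, ∀ x ∈ orbit (stabilizer G a) b, k • x = x) ∨
    (∀ x ∈ orbit (stabilizer G a) b, ∀ y ∈ orbit (stabilizer G a) b, ∃ k ∈ K, k • x = y) := by
  have hN : (K.subgroupOf (stabilizer G a)).Normal :=
    (Subgroup.normal_subgroupOf_iff_le_normalizer hK).2 hn
  by_cases hf : fixedPoints (K.subgroupOf (stabilizer G a)) (orbit (stabilizer G a) b) = Set.univ
  · left
    intro k hk x hx
    have h : (⟨x, hx⟩ : orbit (stabilizer G a) b) ∈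
        fixedPoints (K.subgroupOf (stabilizer G a)) (orbit (stabilizer G a) b) := by
      rw [hf]; trivial
    exact congrArg Subtype.val (h ⟨⟨k, hK hk⟩, hk⟩)
  · right
    intro x hx y hy
    have := IsPreprimitive.isQuasiPreprimitive.isPretransitive_of_normal hf
    obtain ⟨⟨⟨k, hk'⟩, hk⟩, hkxy⟩ := exists_smul_eq (K.subgroupOf (stabilizer G a))
      (⟨x, hx⟩ : orbit (stabilizer G a) b) ⟨y, hy⟩
    exact ⟨k, hk, congrArg Subtype.val hkxy⟩

theorem stabilizer_ne [Finite G] [FaithfulSMul G Ω] [IsPreprimitive G Ω]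
    {a b : Ω} (hab : a ≠ b) (hne : stabilizer G a ≠ ⊥) : stabilizer G a ≠ stabilizer G b := by
  intro he
  obtain ⟨g, hg⟩ := exists_smul_eq G a b
  have : Nontrivial Ω := ⟨⟨a, b, hab⟩⟩
  have hga : g ∈ Subgroup.normalizer (stabilizer G a : Set G) := by
    rw [Subgroup.mem_normalizer_iff]
    intro h
    conv_rhs => rw [he]
    simp only [mem_stabilizer_iff, ← hg, mul_smul, inv_smul_smul, smul_left_cancel_iff]
  have hlt : stabilizer G a < Subgroup.normalizer (stabilizer G a : Set G) := by
    refine lt_of_le_of_ne Subgroup.le_normalizer fun h => hab ?_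
    rw [← h, mem_stabilizer_iff, hg] at hga
    exact hga.symm
  have htop := (IsPreprimitive.isCoatom_stabilizer_of_isPreprimitive (G := G) a).2 _ hlt
  have hN : (stabilizer G a).Normal := Subgroup.normalizer_eq_top_iff.1 htop
  refine hne ((Subgroup.eq_bot_iff_forall _).2 fun k hk => eq_of_smul_eq_smul (α := Ω) fun x => ?_)
  obtain ⟨c, rfl⟩ := exists_smul_eq G a x
  have := hN.conj_mem k hk c⁻¹
  rw [mem_stabilizer_iff, inv_inv, mul_smul, mul_smul, inv_smul_eq_iff] at this
  rw [one_smul, this]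

/-- The two point stabilizers of two different points generate the whole group. -/
theorem sup_stabilizer_eq_top [Finite G] [FaithfulSMul G Ω] [IsPreprimitive G Ω]
    {a b : Ω} (hab : a ≠ b) (hne : stabilizer G a ≠ ⊥) :
    stabilizer G a ⊔ stabilizer G b = ⊤ := by
  have : Nontrivial Ω := ⟨⟨a, b, hab⟩⟩
  have ha := IsPreprimitive.isCoatom_stabilizer_of_isPreprimitive (G := G) a
  have hb := IsPreprimitive.isCoatom_stabilizer_of_isPreprimitive (G := G) b
  by_contra h
  have h1 : stabilizer G a = stabilizer G a ⊔ stabilizer G b :=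
    (le_sup_left.eq_or_lt).resolve_right fun h' => h (ha.2 _ h')
  have h2 : stabilizer G b = stabilizer G a ⊔ stabilizer G b :=
    (le_sup_right.eq_or_lt).resolve_right fun h' => h (hb.2 _ h')
  exact stabilizer_ne hab hne (h1.trans h2.symm)

variable (G) in
/-- The size of the suborbit of `b` with respect to `a`. -/
noncomputable def subLen (a b : Ω) : ℕ := (orbit (stabilizer G a) b).ncard

theorem orbit_stabilizer_smul (g : G) (a b : Ω) :
    orbit (stabilizer G (g • a)) (g • b) = (fun x => g • x) '' orbit (stabilizer G a) b := by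
  ext x
  constructor
  · rintro ⟨⟨k, hk⟩, rfl⟩
    refine ⟨g⁻¹ • k • g • b, ⟨⟨g⁻¹ * k * g, ?_⟩, ?_⟩, ?_⟩
    · simp [mem_stabilizer_iff, mul_smul, mem_stabilizer_iff.1 hk]
    · simp [Subgroup.smul_def, mul_smul]
    · simp [Subgroup.smul_def]
  · rintro ⟨_, ⟨⟨k, hk⟩, rfl⟩, rfl⟩
    refine ⟨⟨g * k * g⁻¹, ?_⟩, ?_⟩
    · simp [mem_stabilizer_iff, mul_smul, mem_stabilizer_iff.1 hk]
    · simp [Subgroup.smul_def, mul_smul]

theorem subLen_smul (g : G) (a b : Ω) : subLen G (g • a) (g • b) = subLen G a b := by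
  unfold subLen
  rw [orbit_stabilizer_smul, Set.ncard_image_of_injective _ (MulAction.injective g)]

theorem subLen_mul (a b : Ω) :
    subLen G a b * Nat.card ↥(stabilizer G b ⊓ stabilizer G a) = Nat.card (stabilizer G a) := by
  have he : stabilizer (stabilizer G a) b = (stabilizer G b).subgroupOf (stabilizer G a) := rfl
  have h := Subgroup.index_mul_card ((stabilizer G b).subgroupOf (stabilizer G a))
  rw [← Subgroup.inf_subgroupOf_right,
    Nat.card_congr (Subgroup.subgroupOfEquivOfLe
      (inf_le_right : stabilizer G b ⊓ stabilizer G a ≤ _)).toEquiv,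
    Subgroup.inf_subgroupOf_right, ← he, index_stabilizer] at h
  exact h

theorem subLen_comm [Finite G] [IsPretransitive G Ω] (a b : Ω) :
    subLen G a b = subLen G b a := by
  have h1 := subLen_mul (G := G) a b
  have h2 := subLen_mul (G := G) b a
  rw [inf_comm (stabilizer G a)] at h2
  have h3 : Nat.card (stabilizer G a) = Nat.card (stabilizer G b) := by
    obtain ⟨g, rfl⟩ := exists_smul_eq G a b
    rw [stabilizer_smul_eq_stabilizer_map_conj]
    exact Nat.card_congr
      ((stabilizer G a).equivMapOfInjective _ (MulAut.conj g).injective).toEquiv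
  exact Nat.eq_of_mul_eq_mul_right Nat.card_pos (h1.trans (h3.trans h2.symm))

section Main

variable [Finite G] [FaithfulSMul G Ω] [Finite Ω] [IsPreprimitive G Ω]
  (hH : ∀ a : Ω, stabilizer G a ≠ ⊥)
  (hep : ∀ a b : Ω, IsPreprimitive (stabilizer G a) (orbit (stabilizer G a) b))

include hH hep

theorem subLen_lt {a b x : Ω} (K : Subgroup G) (hK : K ≤ stabilizer G a)
    (hn : stabilizer G a ≤ Subgroup.normalizer (K : Set G))
    (hab : a ≠ b) (hKb : K ≤ stabilizer G b) {k : G} (hk : k ∈ K) (hkx : k • x ≠ x) :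
    subLen G a x < subLen G b x := by
  have hsub : orbit (stabilizer G a) x ⊆ orbit (stabilizer G b) x := by
    intro y hy
    rcases dichotomy (hep a x) K hK hn with h | h
    · exact absurd (h k hk x (mem_orbit_self x)) hkx
    · obtain ⟨l, hl, hly⟩ := h x (mem_orbit_self x) y hy
      exact ⟨⟨l, hKb hl⟩, hly⟩
  refine lt_of_le_of_ne (Set.ncard_le_ncard hsub (Set.toFinite _)) fun he => ?_
  have heq := Set.eq_of_subset_of_ncard_le hsub he.ge (Set.toFinite _)
  have hinv : stabilizer G a ⊔ stabilizer G b ≤ stabilizer G (orbit (stabilizer G a) x) := by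
    refine sup_le (fun g hg => ?_) (fun g hg => ?_)
    · exact smul_orbit (⟨g, hg⟩ : stabilizer G a) x
    · rw [heq]; exact smul_orbit (⟨g, hg⟩ : stabilizer G b) x
  rw [sup_stabilizer_eq_top hab (hH a)] at hinv
  obtain ⟨g, hg⟩ := exists_smul_eq G x a
  have ha : a ∈ orbit (stabilizer G a) x := by
    have := mem_stabilizer_iff.1 (hinv (Subgroup.mem_top g))
    rw [← this, ← hg]
    exact Set.smul_mem_smul_set (mem_orbit_self x)
  obtain ⟨⟨l, hl⟩, hla⟩ := ha
  have : x = a := by
    apply MulAction.injective l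
    exact hla.trans (mem_stabilizer_iff.1 hl).symm
  exact hkx (this ▸ mem_stabilizer_iff.1 (hK hk))

/-- **Manning's theorem.** -/
theorem manning {α ω : Ω} (hω : ω ≠ α) {h : G} (hh : h ∈ stabilizer G α)
    (hfix : ∀ x ∈ orbit (stabilizer G α) ω, h • x = x) : h = 1 := by
  classical
  by_contra hne
  have : Fintype Ω := Fintype.ofFinite Ω
  -- pairs (b, x) such that some element fixing the suborbit of b moves x
  let P : Ω → Prop := fun x => ∃ b, b ≠ α ∧ ∃ k ∈ stabilizer G α,
    (∀ y ∈ orbit (stabilizer G α) b, k • y = y) ∧ k • x ≠ x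
  obtain ⟨x₁, hx₁⟩ : ∃ x, P x := by
    by_contra h'
    refine hne (eq_of_smul_eq_smul (α := Ω) fun x => ?_)
    by_contra hx
    exact h' ⟨x, ω, hω, h, hh, hfix, by rwa [one_smul] at hx⟩
  obtain ⟨x, hxP, hxmax⟩ := Finset.exists_max_image (Finset.univ.filter P) (subLen G α)
    ⟨x₁, by simpa using hx₁⟩
  simp only [Finset.mem_filter, Finset.mem_univ, true_and] at hxP hxmax
  set S := subLen G α x with hS
  -- the pointwise stabilizer of all suborbits longer than S
  let U : Subgroup G :=
    stabilizer G α ⊓ ⨅ (y : Ω) (_ : S < subLen G α y), stabilizer G y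
  have memU : ∀ g, g ∈ U ↔ g • α = α ∧ ∀ y, S < subLen G α y → g • y = y := by
    intro g; simp [U, Subgroup.mem_iInf]
  have hUα : U ≤ stabilizer G α := inf_le_left
  have hUn : stabilizer G α ≤ Subgroup.normalizer (U : Set G) := by
    have key : ∀ g ∈ stabilizer G α, ∀ u ∈ U, g * u * g⁻¹ ∈ U := by
      intro g hg u hu
      rw [memU] at hu ⊢
      have hg' : g⁻¹ • α = α := inv_smul_eq_iff.2 (mem_stabilizer_iff.1 hg).symm
      refine ⟨?_, fun y hy => ?_⟩
      · rw [mul_smul, mul_smul, hg', hu.1, mem_stabilizer_iff.1 hg]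
      · have : subLen G α (g⁻¹ • y) = subLen G α y := by
          conv_lhs => rw [← hg']
          exact subLen_smul _ _ _
        rw [mul_smul, mul_smul, hu.2 _ (this ▸ hy), smul_inv_smul]
    intro g hg
    rw [Subgroup.mem_normalizer_iff]
    intro u
    refine ⟨key g hg u, fun hu => ?_⟩
    have := key g⁻¹ (inv_mem hg) _ hu
    simpa [mul_assoc] using this
  -- every element fixing a suborbit pointwise lies in U
  have hker : ∀ b, b ≠ α → ∀ k ∈ stabilizer G α,
      (∀ y ∈ orbit (stabilizer G α) b, k • y = y) → k ∈ U := by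
    intro b hb k hk hky
    rw [memU]
    refine ⟨mem_stabilizer_iff.1 hk, fun y hy => ?_⟩
    by_contra hmove
    exact absurd (hxmax y ⟨b, hb, k, hk, hky, hmove⟩) (not_le.2 hy)
  obtain ⟨b, hb, k, hk, hkb, hkx⟩ := hxP
  have hkU : k ∈ U := hker b hb k hk hkb
  have hxα : x ≠ α := fun e => hkx (e ▸ mem_stabilizer_iff.1 hk)
  -- a longest suborbit
  obtain ⟨δ, hδ, hδmax⟩ := Finset.exists_max_image (Finset.univ.filter (· ≠ α)) (subLen G α)
    ⟨ω, by simpa using hω⟩
  simp only [Finset.mem_filter, Finset.mem_univ, true_and] at hδ hδmax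
  have hSδ : S < subLen G α δ := by
    let K : Subgroup G :=
      stabilizer G α ⊓ ⨅ (y : Ω) (_ : y ∈ orbit (stabilizer G α) b), stabilizer G y
    have memK : ∀ g, g ∈ K ↔ g • α = α ∧ ∀ y ∈ orbit (stabilizer G α) b, g • y = y := by
      intro g; simp [K, Subgroup.mem_iInf]
    have hKn : stabilizer G α ≤ Subgroup.normalizer (K : Set G) := by
      have key : ∀ g ∈ stabilizer G α, ∀ u ∈ K, g * u * g⁻¹ ∈ K := by
        intro g hg u hu
        rw [memK] at hu ⊢
        refine ⟨?_, fun y hy => ?_⟩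
        · rw [mul_smul, mul_smul, inv_smul_eq_iff.2 (mem_stabilizer_iff.1 hg).symm, hu.1,
            mem_stabilizer_iff.1 hg]
        · rw [mul_smul, mul_smul,
            hu.2 _ (((smul_orbit (⟨g⁻¹, inv_mem hg⟩ : stabilizer G α) b) ▸ Set.smul_mem_smul_set hy)), smul_inv_smul]
      intro g hg
      rw [Subgroup.mem_normalizer_iff]
      intro u
      refine ⟨key g hg u, fun hu => ?_⟩
      have := key g⁻¹ (inv_mem hg) _ hu
      simpa [mul_assoc] using this
    have h1 : S < subLen G b x := subLen_lt hH hep K inf_le_left hKn hb.symm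
      (fun g hg => mem_stabilizer_iff.2 (((memK g).1 hg).2 b (mem_orbit_self b)))
      ((memK k).2 ⟨mem_stabilizer_iff.1 hk, hkb⟩) hkx
    obtain ⟨g, hg⟩ := exists_smul_eq G b α
    have h2 : subLen G α (g • x) = subLen G b x := by rw [← hg, subLen_smul]
    have h3 : g • x ≠ α := by
      rw [← hg, Ne, smul_left_cancel_iff]
      rintro rfl
      exact hkx (hkb x (mem_orbit_self x))
    exact lt_of_lt_of_le (h2 ▸ h1) (hδmax _ h3)
  -- U is normalized by a conjugating element to δ
  obtain ⟨g, hg⟩ := exists_smul_eq G α δ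
  have hUconj : ∀ u ∈ U, g * u * g⁻¹ ∈ U := by
    intro u hu
    have hfix' : ∀ y, S < subLen G δ y → (g * u * g⁻¹) • y = y := by
      intro y hy
      have : subLen G α (g⁻¹ • y) = subLen G δ y := by
        rw [← subLen_smul g α (g⁻¹ • y), hg, smul_inv_smul]
      rw [mul_smul, mul_smul, ((memU u).1 hu).2 _ (this ▸ hy), smul_inv_smul]
    have hα' : (g * u * g⁻¹) • α = α := hfix' α (subLen_comm (G := G) α δ ▸ hSδ)
    refine hker x hxα _ (mem_stabilizer_iff.2 hα') fun y hy => hfix' y ?_
    -- y in the suborbit of x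
    have hlen : subLen G α y = S := by
      unfold subLen; rw [orbit_eq_iff.2 hy]; rfl
    obtain ⟨l, hl, hly⟩ : ∃ l ∈ U, l • y ≠ y := by
      rcases dichotomy (hep α x) U hUα hUn with h | h
      · exact absurd (h k hkU x (mem_orbit_self x)) hkx
      · by_cases hyx : y = x
        · exact ⟨k, hkU, hyx ▸ hkx⟩
        · obtain ⟨l, hl, hlx⟩ := h y hy x (mem_orbit_self x)
          exact ⟨l, hl, by rw [hlx]; exact Ne.symm hyx⟩
    have h1 := subLen_lt hH hep U hUα hUn hδ.symm
      (fun u hu => mem_stabilizer_iff.2 (((memU u).1 hu).2 δ hSδ)) hl hly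
    omega
  have hgN : g ∈ Subgroup.normalizer (U : Set G) := by
    have himg : (fun u => g * u * g⁻¹) '' (U : Set G) = U := by
      refine Set.eq_of_subset_of_ncard_le (Set.image_subset_iff.2 hUconj) ?_ (Set.toFinite _)
      exact (Set.ncard_image_of_injective (U : Set G)
        (f := fun u => g * u * g⁻¹) (MulAut.conj g).injective).ge
    rw [Subgroup.mem_normalizer_iff]
    intro u
    refine ⟨hUconj u, fun hu => ?_⟩
    rw [← SetLike.mem_coe, ← himg] at hu
    obtain ⟨v, hv, hvu⟩ := hu
    have : v = u := (MulAut.conj g).injective hvu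
    exact this ▸ hv
  have : Nontrivial Ω := ⟨⟨ω, α, hω⟩⟩
  have hgα : g ∉ stabilizer G α := fun h' => hδ (hg.symm.trans (mem_stabilizer_iff.1 h'))
  have htop := (IsPreprimitive.isCoatom_stabilizer_of_isPreprimitive (G := G) α).2 _
    (lt_of_le_of_ne hUn fun e => hgα (e.symm ▸ hgN))
  have hUN : U.Normal := Subgroup.normalizer_eq_top_iff.1 htop
  apply hkx
  obtain ⟨c, hc⟩ := exists_smul_eq G α x
  have := mem_stabilizer_iff.1 (hUα (hUN.conj_mem k hkU c⁻¹))
  rw [inv_inv, mul_smul, mul_smul, hc, inv_smul_eq_iff, hc] at this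
  exact this

end Main

end CfsgLib.ExtPrim
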