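import Cfsg.Agent.ExtPrim.Socle
import Cfsg.Agent.ExtPrim.Derange
import Mathlib.GroupTheory.Sylow
import Mathlib.GroupTheory.Nilpotent
import Mathlib.GroupTheory.Solvable

/-! Abelian normal subgroups of primitive groups, and of point stabilizers in extremely primitive
groups. -/

set_option autoImplicit false
set_option linter.style.haveILetI false

namespace CfsgLib.ExtPrim

open MulAction

section Primitive

variable {H O : Type*} [Group H] [MulAction H O] [FaithfulSMul H O] [IsPreprimitive H O]

theorem isPretransitive_normal (N : Subgroup H) [N.Normal] (hN : N ≠ ⊥) : IsPretransitive N O := by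
  refine IsQuasiPreprimitive.isPretransitive_of_normal (G := H) fun h => hN ?_
  refine (Subgroup.eq_bot_iff_forall _).2 fun n hn => eq_of_smul_eq_smul (α := O) fun x => ?_
  have : x ∈ fixedPoints N O := h ▸ Set.mem_univ x
  simpa using this ⟨n, hn⟩

variable (A : Subgroup H) [A.Normal] (hA : IsMulCommutative A) (hne : A ≠ ⊥)

include hA hne in
theorem regular_inj {a : H} (ha : a ∈ A) {x : O} (hx : a • x = x) : a = 1 := by
  have := isPretransitive_normal (O := O) A hne
  by_contra h
  exact abelian_derangement A hA ha h x hx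

include hA hne in
theorem regular_card [Finite H] (x : O) : Nat.card A = Nat.card O :=
  have := isPretransitive_normal (O := O) A hne
  abelian_card A hA x

include hA hne in
/-- A normal abelian subgroup of a primitive group is its own centralizer. -/
theorem regular_centralizer [Nonempty O] : Subgroup.centralizer (A : Set H) = A := by
  have := isPretransitive_normal (O := O) A hne
  refine le_antisymm (fun c hc => ?_) fun a ha => Subgroup.mem_centralizer_iff.2 fun b hb =>
    congrArg Subtype.val (hA.is_comm.comm ⟨b, hb⟩ ⟨a, ha⟩)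
  obtain ⟨⟨a, ha⟩, hax⟩ := exists_smul_eq A (Classical.arbitrary O) (c • Classical.arbitrary O)
  have hax' : a • Classical.arbitrary O = c • Classical.arbitrary O := hax
  suffices c = a by rw [this]; exact ha
  refine eq_of_smul_eq_smul (α := O) fun y => ?_
  obtain ⟨⟨b, hb⟩, hby⟩ := exists_smul_eq A (Classical.arbitrary O) y
  have hby' : b • Classical.arbitrary O = y := hby
  rw [← hby', ← mul_smul, ← mul_smul, ← Subgroup.mem_centralizer_iff.1 hc b hb, mul_smul, ← hax',
    ← mul_smul,
    show b * a = a * b from congrArg Subtype.val (hA.is_comm.comm ⟨b, hb⟩ ⟨a, ha⟩)]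

include hA hne in
/-- A normal abelian subgroup of a primitive group is elementary abelian. -/
theorem regular_elementary [Finite H] [Nonempty O] :
    ∃ p e : ℕ, p.Prime ∧ (∀ a ∈ A, a ^ p = 1) ∧ Nat.card A = p ^ e := by
  have hnt : Nontrivial A := (Subgroup.nontrivial_iff_ne_bot A).2 hne
  obtain ⟨p, hp, hdvd⟩ := Nat.exists_prime_and_dvd (Finite.one_lt_card (α := A)).ne'
  have : Fact p.Prime := ⟨hp⟩
  obtain ⟨z, hz⟩ := exists_prime_orderOf_dvd_card' p hdvd
  let B : Subgroup H :=
    { carrier := {a | a ∈ A ∧ a ^ p = 1}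
      one_mem' := ⟨one_mem _, one_pow _⟩
      mul_mem' := fun {a b} ha hb => ⟨mul_mem ha.1 hb.1, by
        rw [(show Commute a b from congrArg Subtype.val
          (hA.is_comm.comm ⟨a, ha.1⟩ ⟨b, hb.1⟩)).mul_pow, ha.2, hb.2, one_mul]⟩
      inv_mem' := fun {a} ha => ⟨inv_mem ha.1, by rw [inv_pow, ha.2, inv_one]⟩ }
  have hBn : B.Normal := ⟨fun a ha g =>
    ⟨(inferInstance : A.Normal).conj_mem a ha.1 g, by rw [conj_pow, ha.2, mul_one, mul_inv_cancel]⟩⟩
  have hBne : B ≠ ⊥ := fun h => by
    have hzB : (z : H) ∈ B := ⟨z.2, by rw [← hz, ← SubgroupClass.coe_pow, pow_orderOf_eq_one]; rfl⟩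
    rw [h, Subgroup.mem_bot] at hzB
    rw [show z = 1 from Subtype.ext hzB, orderOf_one] at hz
    exact hp.one_lt.ne hz
  have hBt := isPretransitive_normal (O := O) B hBne
  have hall : ∀ a ∈ A, a ^ p = 1 := by
    intro a ha
    obtain ⟨⟨b, hb⟩, hbx⟩ := exists_smul_eq B (Classical.arbitrary O) (a • Classical.arbitrary O)
    have := isPretransitive_normal (O := O) A hne
    rw [← abelian_inj A hA hb.1 ha hbx]
    exact hb.2
  have hpg : IsPGroup p A := fun a => ⟨1, Subtype.ext (by simpa using hall a a.2)⟩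
  obtain ⟨e, he⟩ := IsPGroup.iff_card.1 hpg
  exact ⟨p, e, hp, hall, he⟩

end Primitive

theorem exists_normal_comm (H : Type*) [Group H] [Finite H] [Group.IsSolvable H] [Nontrivial H] :
    ∃ A : Subgroup H, A.Normal ∧ IsMulCommutative A ∧ A ≠ ⊥ := by
  classical
  obtain ⟨n, hn⟩ := Group.IsSolvable.solvable (G := H)
  obtain ⟨m, hm, hm'⟩ : ∃ m, derivedSeries H m ≠ ⊥ ∧ derivedSeries H (m + 1) = ⊥ := by
    have h0 : derivedSeries H 0 ≠ ⊥ := by rw [derivedSeries_zero]; exact top_ne_bot
    by_contra h
    push Not at h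
    have : ∀ k, derivedSeries H k ≠ ⊥ := fun k => by
      induction k with
      | zero => exact h0
      | succ k ih => exact h k ih
    exact this n hn
  refine ⟨derivedSeries H m, derivedSeries_normal H m, ⟨⟨fun a b => Subtype.ext ?_⟩⟩, hm⟩
  have h := Subgroup.commutator_mem_commutator a.2 b.2
  rw [← derivedSeries_succ, hm', Subgroup.mem_bot, commutatorElement_eq_one_iff_mul_comm] at h
  exact h

section Local

variable {G Ω : Type*} [Group G] [MulAction G Ω]
variable [Finite G] [FaithfulSMul G Ω] [Finite Ω] [IsPreprimitive G Ω]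
  (hH : ∀ a : Ω, stabilizer G a ≠ ⊥)
  (hep : ∀ a b : Ω, IsPreprimitive (stabilizer G a) (orbit (stabilizer G a) b))

include hH hep

theorem faithful_suborbit {α x : Ω} (hx : x ≠ α) :
    FaithfulSMul (stabilizer G α) (orbit (stabilizer G α) x) := by
  constructor
  intro g h e
  have : h⁻¹ * g = 1 := Subtype.ext <| manning hH hep hx (h⁻¹ * g).2 fun y hy => by
    have := congrArg Subtype.val (e ⟨y, hy⟩)
    rw [orbit.coe_smul, orbit.coe_smul] at this
    rw [Subgroup.coe_mul, mul_smul]
    show ((h⁻¹ : stabilizer G α) : G) • (g • y : Ω) = y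
    rw [show (g • y : Ω) = h • y from this]
    exact inv_smul_smul h y
  exact (inv_mul_eq_one.1 this).symm

omit hep in
theorem nontrivial_suborbit {α x : Ω} (hx : x ≠ α) :
    Nontrivial (orbit (stabilizer G α) x) := by
  obtain ⟨g, hg, hgx⟩ := SetLike.not_le_iff_exists.1 (not_le_stabilizer hH hx)
  exact ⟨⟨⟨g • x, ⟨g, hg⟩, rfl⟩, ⟨x, mem_orbit_self x⟩, fun e => hgx (congrArg Subtype.val e)⟩⟩

/-- A normal abelian subgroup of a point stabilizer is regular on every suborbit. -/
theorem local_card {α x : Ω} (hx : x ≠ α) (A : Subgroup (stabilizer G α)) [A.Normal]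
    (hA : IsMulCommutative A) (hne : A ≠ ⊥) :
    Nat.card (orbit (stabilizer G α) x) = Nat.card A :=
  have := faithful_suborbit hH hep hx
  have := hep α x
  (regular_card A hA hne (⟨x, mem_orbit_self x⟩ : orbit (stabilizer G α) x)).symm

theorem local_inj {α x : Ω} (hx : x ≠ α) (A : Subgroup (stabilizer G α)) [A.Normal]
    (hA : IsMulCommutative A) (hne : A ≠ ⊥) {a : stabilizer G α} (ha : a ∈ A)
    (hax : (a : G) • x = x) : a = 1 :=
  have := faithful_suborbit hH hep hx
  have := hep α x
  regular_inj A hA hne ha (x := (⟨x, mem_orbit_self x⟩ : orbit (stabilizer G α) x))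
    (Subtype.ext hax)

theorem local_centralizer {α x : Ω} (hx : x ≠ α) (A : Subgroup (stabilizer G α)) [A.Normal]
    (hA : IsMulCommutative A) (hne : A ≠ ⊥) :
    Subgroup.centralizer (A : Set (stabilizer G α)) = A :=
  have := faithful_suborbit hH hep hx
  have := hep α x
  have : Nonempty (orbit (stabilizer G α) x) := ⟨⟨x, mem_orbit_self x⟩⟩
  regular_centralizer (O := orbit (stabilizer G α) x) A hA hne

theorem local_elementary {α x : Ω} (hx : x ≠ α) (A : Subgroup (stabilizer G α)) [A.Normal]
    (hA : IsMulCommutative A) (hne : A ≠ ⊥) :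
    ∃ p e : ℕ, p.Prime ∧ (∀ a ∈ A, a ^ p = 1) ∧ Nat.card A = p ^ e :=
  have := faithful_suborbit hH hep hx
  have := hep α x
  have : Nonempty (orbit (stabilizer G α) x) := ⟨⟨x, mem_orbit_self x⟩⟩
  regular_elementary (O := orbit (stabilizer G α) x) A hA hne

theorem card_dvd_sub_one [Fintype Ω] (α : Ω) (A : Subgroup (stabilizer G α)) [A.Normal]
    (hA : IsMulCommutative A) (hne : A ≠ ⊥) : Nat.card A ∣ Fintype.card Ω - 1 := by
  classical
  letI : MulAction A {x : Ω // x ≠ α} :=
    { smul := fun a x => ⟨((a : stabilizer G α) : G) • x.1, fun e => x.2 (MulAction.injective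
        ((a : stabilizer G α) : G) (e.trans (mem_stabilizer_iff.1 (a : stabilizer G α).2).symm))⟩
      one_smul := fun x => Subtype.ext (one_smul G x.1)
      mul_smul := fun a b x => Subtype.ext (mul_smul _ _ x.1) }
  have hfree : ∀ x : {x : Ω // x ≠ α}, stabilizer A x = ⊥ := fun x =>
    (Subgroup.eq_bot_iff_forall _).2 fun a ha =>
      Subtype.ext (local_inj hH hep x.2 A hA hne a.2 (congrArg Subtype.val (mem_stabilizer_iff.1 ha)))
  have hcard := Nat.card_congr (selfEquivSigmaOrbitsQuotientStabilizer A {x : Ω // x ≠ α})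
  have : Fintype (Quotient (orbitRel A {x : Ω // x ≠ α})) := Fintype.ofFinite _
  rw [Nat.card_sigma, Nat.card_eq_fintype_card, Fintype.card_subtype_compl,
    Fintype.card_subtype_eq] at hcard
  rw [hcard]
  exact Finset.dvd_sum fun ω _ => by
    have h := Subgroup.card_eq_card_quotient_mul_card_subgroup
      (stabilizer A (Quotient.out ω))
    rw [hfree, Subgroup.card_bot, mul_one] at h
    rw [hfree]
    exact h.dvd

end Local

end CfsgLib.ExtPrim
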