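import Cfsg.Agent.FGSB.PrimitiveRootAction
import Mathlib.RingTheory.PrincipalIdealDomain
import Mathlib.Algebra.Polynomial.FieldDivision

/-! A fixed-point-free irreducible operator of prime order `q` on `(ZMod p)^d`: `p` has order `d`
modulo `q` and the operators normalising it act through powers of `p`. -/

set_option autoImplicit false
set_option linter.unusedSectionVars false

namespace CfsgLib.ExtPrim.SemiLinear

open Polynomial

variable {p q : ℕ} [hp : Fact p.Prime] [hq : Fact q.Prime]
  {M : Type*} [AddCommGroup M] [Module (ZMod p) M] [Finite M] [Nontrivial M]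

theorem aeval_invariant (τ : Module.End (ZMod p) M) (g : (ZMod p)[X]) (v : M) :
    τ (aeval τ g v) = aeval τ g (τ v) := by
  have h1 : aeval τ (X * g) = aeval τ (g * X) := by rw [mul_comm]
  rw [map_mul, map_mul, aeval_X] at h1
  exact LinearMap.congr_fun h1 v

theorem exists_irreducible (τ : Module.End (ZMod p) M)
    (hirr : ∀ W : Submodule (ZMod p) M, (∀ w ∈ W, τ w ∈ W) → W = ⊥ ∨ W = ⊤)
    {g : (ZMod p)[X]} (hg : g ≠ 0) (hg0 : aeval τ g = 0) :
    ∃ f : (ZMod p)[X], Irreducible f ∧ aeval τ f = 0 := by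
  induction g using UniqueFactorizationMonoid.induction_on_prime with
  | h₁ => exact absurd rfl hg
  | h₂ x hx =>
    have := hx.map (aeval τ)
    rw [hg0, isUnit_zero_iff] at this
    exact absurd this zero_ne_one
  | h₃ a π ha hπ ih =>
    rcases hirr (LinearMap.ker (aeval τ π)) (fun w hw => by
      rw [LinearMap.mem_ker] at hw ⊢
      rw [← aeval_invariant, hw, map_zero]) with h | h
    · refine ih ha ?_
      rw [map_mul] at hg0
      refine LinearMap.ext fun v => ?_
      have : aeval τ a v ∈ LinearMap.ker (aeval τ π) := LinearMap.congr_fun hg0 v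
      rw [h, Submodule.mem_bot] at this
      exact this
    · exact ⟨π, hπ.irreducible, LinearMap.ker_eq_top.1 h⟩

theorem main {d : ℕ} (hcard : Nat.card M = p ^ d) (τ : Module.End (ZMod p) M) (hτ : τ ^ q = 1)
    (hfpf : ∀ v, τ v = v → v = 0)
    (hirr : ∀ W : Submodule (ZMod p) M, (∀ w ∈ W, τ w ∈ W) → W = ⊥ ∨ W = ⊤) :
    (∀ i, 0 < i → i < d → ¬ q ∣ p ^ i - 1) ∧
    ∀ (k : ℕ) (σ : M →ₗ[ZMod p] M), Function.Surjective σ →
      (∀ v, σ (τ v) = (τ ^ k) (σ v)) → ∃ i : ℕ, (k : ZMod q) = (p : ZMod q) ^ i := by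
  classical
  have hX : (X ^ q - 1 : (ZMod p)[X]) ≠ 0 := by
    rw [← C_1]; exact X_pow_sub_C_ne_zero hq.out.pos 1
  obtain ⟨f, hf, hf0⟩ := exists_irreducible τ hirr hX
    (by rw [map_sub, map_pow, aeval_X, map_one, hτ, sub_self])
  obtain ⟨v, hv⟩ := exists_ne (0 : M)
  have key : ∀ g : (ZMod p)[X], aeval τ g v = 0 ↔ f ∣ g := by
    intro g
    constructor
    · intro h
      by_contra hn
      obtain ⟨a, b, hab⟩ := hf.coprime_iff_not_dvd.2 hn
      apply hv
      have := congrArg (fun r => aeval τ r v) hab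
      simp only [map_add, map_mul, map_one, LinearMap.add_apply, Module.End.mul_apply, hf0,
        LinearMap.zero_apply, h, map_zero, zero_add, Module.End.one_apply] at this
      exact this.symm
    · rintro ⟨c, rfl⟩
      rw [map_mul, hf0, zero_mul, LinearMap.zero_apply]
  have : Fact (Irreducible f) := ⟨hf⟩
  have hmk : ∀ g g' : (ZMod p)[X], AdjoinRoot.mk f g = AdjoinRoot.mk f g' ↔
      aeval τ g v = aeval τ g' v := by
    intro g g'
    rw [AdjoinRoot.mk_eq_mk, ← key, map_sub, LinearMap.sub_apply, sub_eq_zero]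
  choose out hout using AdjoinRoot.mk_surjective (g := f)
  let e : AdjoinRoot f → M := fun x => aeval τ (out x) v
  have hWtop : LinearMap.range ((LinearMap.applyₗ v).comp (aeval τ).toLinearMap) = ⊤ := by
    rcases hirr (LinearMap.range ((LinearMap.applyₗ v).comp (aeval τ).toLinearMap)) (by
      rintro _ ⟨g, rfl⟩
      refine ⟨X * g, ?_⟩
      show aeval τ (X * g) v = τ (aeval τ g v)
      rw [map_mul, aeval_X, Module.End.mul_apply]) with h | h
    · refine absurd ?_ hv
      rw [← Submodule.mem_bot (ZMod p), ← h]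
      exact ⟨1, by show aeval τ (1 : (ZMod p)[X]) v = v; rw [map_one, Module.End.one_apply]⟩
    · exact h
  have he : Function.Bijective e := by
    refine ⟨fun x y h => ?_, fun w => ?_⟩
    · rw [← hout x, ← hout y]
      exact (hmk _ _).2 h
    · obtain ⟨g, hg⟩ : w ∈ LinearMap.range ((LinearMap.applyₗ v).comp (aeval τ).toLinearMap) :=
        hWtop ▸ Submodule.mem_top
      exact ⟨AdjoinRoot.mk f g, ((hmk _ _).1 (hout _)).trans hg⟩
  have hdeg : f.natDegree = d := by
    apply Nat.pow_right_injective hp.out.two_le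
    show p ^ _ = p ^ _
    rw [← hcard, ← Nat.card_congr (Equiv.ofBijective e he),
      CfsgLib.PrimRootAct.natCard_adjoinRoot hf.ne_zero]
  have hrq : AdjoinRoot.root f ^ q = 1 := by
    rw [← AdjoinRoot.mk_X, ← map_pow, ← map_one (AdjoinRoot.mk f), hmk, map_pow, aeval_X, map_one, hτ]
  have hr1 : AdjoinRoot.root f ≠ 1 := by
    rw [← AdjoinRoot.mk_X, ← map_one (AdjoinRoot.mk f), Ne, hmk, aeval_X, map_one]
    exact fun h => hv (hfpf v h)
  have hord : orderOf (AdjoinRoot.root f) = q := orderOf_eq_prime hrq hr1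
  refine ⟨fun i hi0 hid hdvd => ?_, fun k σ hσ hcomm => ?_⟩
  · have hfix : AdjoinRoot.root f ^ p ^ i = AdjoinRoot.root f := by
      obtain ⟨c, hc⟩ := hdvd
      have hp1 : 1 ≤ p ^ i := Nat.one_le_pow _ _ hp.out.pos
      rw [show p ^ i = q * c + 1 by omega, pow_succ, pow_mul, hrq, one_pow, one_mul]
    have : CharP (AdjoinRoot f) p :=
      charP_of_injective_algebraMap (algebraMap (ZMod p) (AdjoinRoot f)).injective p
    have hall : ∀ y : AdjoinRoot f, y ^ p ^ i = y := by
      have h : iterateFrobenius (AdjoinRoot f) p i = RingHom.id _ := by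
        refine AdjoinRoot.ringHom_ext (Subsingleton.elim _ _) ?_
        rw [iterateFrobenius_def, hfix, RingHom.id_apply]
      intro y
      rw [← iterateFrobenius_def, h, RingHom.id_apply]
    have hc := CfsgLib.PrimRootAct.natCard_adjoinRoot hf.ne_zero
    have : Finite (AdjoinRoot f) := Nat.finite_of_card_ne_zero
      (by rw [hc]; exact pow_ne_zero _ hp.out.ne_zero)
    have := Fintype.ofFinite (AdjoinRoot f)
    have h1 : 1 < p ^ i := Nat.one_lt_pow hi0.ne' hp.out.one_lt
    have hle : Fintype.card (AdjoinRoot f) ≤ p ^ i := by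
      have h2 := Polynomial.card_le_degree_of_subset_roots (p := (X ^ p ^ i - X : (AdjoinRoot f)[X]))
        (Z := Finset.univ) (fun y _ => by
          rw [mem_roots (FiniteField.X_pow_card_sub_X_ne_zero _ h1)]
          simp [hall y])
      rwa [Finset.card_univ, FiniteField.X_pow_card_sub_X_natDegree_eq _ h1] at h2
    rw [← Nat.card_eq_fintype_card, hc, hdeg] at hle
    exact absurd hle (not_le.2 (Nat.pow_lt_pow_right hp.out.one_lt hid))
  · have hroot : aeval (AdjoinRoot.root f ^ k) f = 0 := by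
      have h1 : aeval (AdjoinRoot.root f) (f.comp (X ^ k)) = aeval (AdjoinRoot.root f ^ k) f := by
        rw [aeval_comp, map_pow, aeval_X]
      rw [← h1, AdjoinRoot.aeval_eq, ← map_zero (AdjoinRoot.mk f), hmk, aeval_comp, map_pow,
        aeval_X, map_zero, LinearMap.zero_apply]
      obtain ⟨w, rfl⟩ := hσ v
      rw [← CfsgLib.PrimRootAct.map_aeval hcomm, hf0, LinearMap.zero_apply, map_zero]
    obtain ⟨i, hi⟩ := CfsgLib.PrimRootAct.exists_pow_eq_of_root hroot
    refine ⟨i, ?_⟩
    have : IsLeftCancelMulZero (AdjoinRoot f) := inferInstance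
    have hu : IsUnit (AdjoinRoot.root f) := IsUnit.of_pow_eq_one hrq hq.out.ne_zero
    obtain ⟨u, hu⟩ := hu
    rw [← hu, ← Units.val_pow_eq_pow_val, ← Units.val_pow_eq_pow_val, Units.val_inj,
      pow_eq_pow_iff_modEq, ← orderOf_units, hu, hord] at hi
    rw [← Nat.cast_pow, ZMod.natCast_eq_natCast_iff]
    exact hi

end CfsgLib.ExtPrim.SemiLinear
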